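import Mathlib.GroupTheory.SpecificGroups.Dihedral
import Mathlib.GroupTheory.PGroup

/-!
Automorphisms of odd order of subgroups of a dihedral group that fix an involution are trivial
on 2-groups.
-/

set_option autoImplicit false

namespace Cfsg.Agent.Classif

open DihedralGroup

theorem zmod_two_torsion {n : ℕ} [NeZero n] {i j : ZMod n} (hi : i + i = 0) (hj : j + j = 0)
    (hi0 : i ≠ 0) (hj0 : j ≠ 0) : i = j := by
  have key : ∀ x : ZMod n, x + x = 0 → x ≠ 0 → 2 * x.val = n := by
    intro x hx hx0
    have h1 : ((2 * x.val : ℕ) : ZMod n) = 0 := by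
      rw [Nat.cast_mul, ZMod.natCast_zmod_val, Nat.cast_ofNat, two_mul, hx]
    obtain ⟨k, hk⟩ := (ZMod.natCast_eq_zero_iff _ _).1 h1
    have hlt := ZMod.val_lt x
    have hpos : x.val ≠ 0 := fun h => hx0 ((ZMod.val_eq_zero x).1 h)
    have hk1 : k = 1 := by
      rcases Nat.lt_or_ge k 1 with h | h
      · interval_cases k
        omega
      · rcases Nat.lt_or_ge k 2 with h' | h'
        · omega
        · have : n * 2 ≤ n * k := Nat.mul_le_mul_left n h'
          omega
    rw [hk, hk1, mul_one]
  have := key i hi hi0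
  have := key j hj hj0
  exact ZMod.val_injective n (by omega)

/-- If `φ` of finite odd order maps `c` to `c * z` with `z` fixed of 2-power order then `z = 1`. -/
theorem eq_one_of_shift {R : Type*} [Group R] (φ : MulAut R) {k : ℕ} (hk : Odd k) (hφ : φ ^ k = 1)
    {c z : R} (hz : φ z = z) (hc : φ c = c * z) {a : ℕ} (ha : z ^ 2 ^ a = 1) : z = 1 := by
  have h : ∀ m : ℕ, (φ ^ m) c = c * z ^ m := by
    intro m
    induction m with
    | zero => simp
    | succ m ih => rw [pow_succ', MulAut.mul_apply, ih, map_mul, map_pow, hc, hz, pow_succ',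
        mul_assoc]
  have h1 := h k
  rw [hφ, MulAut.one_apply] at h1
  have h2 : z ^ k = 1 := mul_eq_left.mp h1.symm
  have h3 : orderOf z ∣ Nat.gcd k (2 ^ a) :=
    Nat.dvd_gcd (orderOf_dvd_of_pow_eq_one h2) (orderOf_dvd_of_pow_eq_one ha)
  have h4 : Nat.Coprime k (2 ^ a) :=
    Nat.Coprime.pow_right a (Nat.coprime_two_right.2 hk)
  rw [h4.gcd_eq_one, Nat.dvd_one, orderOf_eq_one_iff] at h3
  exact h3

/-- An automorphism of odd order of a 2-group embedded in a dihedral group which fixes an
involution is trivial. -/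
theorem dihedral_aut_trivial {R : Type*} [Group R] [Finite R] (hR : IsPGroup 2 R) {n : ℕ}
    [NeZero n] (e : R →* DihedralGroup n) (he : Function.Injective e) (φ : MulAut R) {k : ℕ}
    (hk : Odd k) (hφ : φ ^ k = 1) {t : R} (ht : orderOf t = 2) (hfix : φ t = t) : φ = 1 := by
  classical
  let IsRot : R → Prop := fun x => ∃ i : ZMod n, e x = DihedralGroup.r i
  have rot_or : ∀ x : R, IsRot x ∨ (x * x = 1 ∧ ¬ IsRot x) := by
    intro x
    rcases hx : e x with i | i
    · exact Or.inl ⟨i, hx⟩
    · refine Or.inr ⟨he ?_, fun ⟨j, hj⟩ => ?_⟩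
      · rw [map_mul, map_one, hx, sr_mul_sr, sub_self, one_def]
      · rw [hx] at hj; exact absurd hj (by simp)
  have rot_comm : ∀ x y : R, IsRot x → IsRot y → x * y = y * x := by
    rintro x y ⟨i, hi⟩ ⟨j, hj⟩
    exact he (by rw [map_mul, map_mul, hi, hj, r_mul_r, r_mul_r, add_comm])
  have rot_mul : ∀ x y : R, IsRot x → IsRot y → IsRot (x * y) := by
    rintro x y ⟨i, hi⟩ ⟨j, hj⟩
    exact ⟨i + j, by rw [map_mul, hi, hj, r_mul_r]⟩
  have rot_inv : ∀ x : R, IsRot x → IsRot x⁻¹ := by
    rintro x ⟨i, hi⟩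
    exact ⟨-i, by rw [map_inv, hi, inv_r]⟩
  -- a unique involution among the rotations
  have rot_uniq : ∀ x y : R, IsRot x → IsRot y → x * x = 1 → y * y = 1 → x ≠ 1 → y ≠ 1 → x = y := by
    rintro x y ⟨i, hi⟩ ⟨j, hj⟩ hx hy hx1 hy1
    refine he ?_
    have h1 : i + i = 0 := by
      have := congrArg e hx
      rw [map_mul, hi, r_mul_r, map_one, one_def] at this
      exact DihedralGroup.r.inj this
    have h2 : j + j = 0 := by
      have := congrArg e hy
      rw [map_mul, hj, r_mul_r, map_one, one_def] at this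
      exact DihedralGroup.r.inj this
    have h3 : i ≠ 0 := fun h => hx1 (he (by rw [hi, h, map_one, one_def]))
    have h4 : j ≠ 0 := fun h => hy1 (he (by rw [hj, h, map_one, one_def]))
    rw [hi, hj, zmod_two_torsion h1 h2 h3 h4]
  have hshift := fun {c z : R} => eq_one_of_shift φ hk hφ (c := c) (z := z)
  by_cases hbig : ∃ c : R, IsRot c ∧ c * c ≠ 1
  · obtain ⟨c₀, hc₀, hc₀2⟩ := hbig
    have rot_big : ∀ c : R, IsRot c → c * c ≠ 1 → IsRot (φ c) := by
      intro c _ hcc
      rcases rot_or (φ c) with h | ⟨h, -⟩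
      · exact h
      · rw [← map_mul, ← map_one φ] at h
        exact absurd (φ.injective h) hcc
    have rot_map : ∀ c : R, IsRot c → IsRot (φ c) := by
      intro c hc
      by_cases hcc : c * c = 1
      · have h1 : (c * c₀) * (c * c₀) ≠ 1 := by
          intro h
          apply hc₀2
          calc c₀ * c₀ = (c * c) * (c₀ * c₀) := by rw [hcc, one_mul]
            _ = c * (c * c₀) * c₀ := by simp only [mul_assoc]
            _ = c * (c₀ * c) * c₀ := by rw [rot_comm c c₀ hc hc₀]
            _ = 1 := by rw [← h]; simp only [mul_assoc]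
        have h2 := rot_mul _ _ (rot_big _ (rot_mul _ _ hc hc₀) h1) (rot_inv _ (rot_big _ hc₀ hc₀2))
        rwa [map_mul, mul_inv_cancel_right] at h2
      · exact rot_big c hc hcc
    have hrot2 : ∀ z : R, IsRot z → z * z = 1 → φ z = z := by
      intro z hz hzz
      by_cases h1 : z = 1
      · rw [h1, map_one]
      · refine rot_uniq _ _ (rot_map z hz) hz ?_ hzz ?_ h1
        · rw [← map_mul, hzz, map_one]
        · exact fun h => h1 (φ.injective (h.trans (map_one φ).symm))
    have hrot : ∀ (a : ℕ) (c : R), IsRot c → c ^ 2 ^ a = 1 → φ c = c := by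
      intro a
      induction a with
      | zero => intro c _ h; rw [pow_zero, pow_one] at h; rw [h, map_one]
      | succ a ih =>
        intro c hc h
        have h2 : φ (c * c) = c * c := ih _ (rot_mul _ _ hc hc) (by
          rw [← pow_two, ← pow_mul, ← pow_succ']; exact h)
        have hz : IsRot (c⁻¹ * φ c) := rot_mul _ _ (rot_inv _ hc) (rot_map c hc)
        have hcm := rot_comm c⁻¹ (φ c) (rot_inv _ hc) (rot_map c hc)
        have hzz : c⁻¹ * φ c * (c⁻¹ * φ c) = 1 := by
          calc c⁻¹ * φ c * (c⁻¹ * φ c) = c⁻¹ * (φ c * c⁻¹) * φ c := by simp only [mul_assoc]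
            _ = c⁻¹ * (c⁻¹ * φ c) * φ c := by rw [hcm]
            _ = c⁻¹ * c⁻¹ * φ (c * c) := by rw [map_mul]; simp only [mul_assoc]
            _ = 1 := by rw [h2]; group
        have := hshift (c := c) (hrot2 _ hz hzz) (mul_inv_cancel_left c (φ c)).symm (a := 1)
          (by rw [pow_one, pow_two, hzz])
        rwa [inv_mul_eq_one, eq_comm] at this
    have hrotfix : ∀ c : R, IsRot c → φ c = c := by
      intro c hc
      obtain ⟨a, ha⟩ := hR c
      exact hrot a c hc ha
    ext x
    rw [MulAut.one_apply]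
    rcases rot_or x with hx | ⟨hxx, hx⟩
    · exact hrotfix x hx
    · have hz : IsRot (x⁻¹ * φ x) := by
        rcases h1 : e x with i | i
        · exact absurd ⟨i, h1⟩ hx
        rcases h2 : e (φ x) with j | j
        · exfalso
          apply hx
          have hxi : φ (φ x) = φ x := hrotfix _ ⟨j, h2⟩
          have : φ x = x := φ.injective hxi
          exact this ▸ ⟨j, h2⟩
        · exact ⟨j - i, by rw [map_mul, map_inv, h1, h2, inv_sr, sr_mul_sr]⟩
      obtain ⟨a, ha⟩ := hR (x⁻¹ * φ x)
      have := hshift (c := x) (hrotfix _ hz) (mul_inv_cancel_left x (φ x)).symm ha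
      rwa [inv_mul_eq_one, eq_comm] at this
  · push Not at hbig
    have hsq : ∀ x : R, x * x = 1 := fun x => (rot_or x).elim (hbig x) And.left
    have hinv : ∀ x : R, x⁻¹ = x := fun x => inv_eq_of_mul_eq_one_right (hsq x)
    have hcomm : ∀ x y : R, x * y = y * x := fun x y => by
      calc x * y = (x * y)⁻¹ := (hinv _).symm
        _ = y * x := by rw [mul_inv_rev, hinv, hinv]
    -- two non-rotations differ by a rotation
    have hdiff : ∀ x y : R, ¬ IsRot x → ¬ IsRot y → IsRot (x * y) := by
      intro x y hx hy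
      rcases h1 : e x with i | i
      · exact absurd ⟨i, h1⟩ hx
      rcases h2 : e y with j | j
      · exact absurd ⟨j, h2⟩ hy
      exact ⟨j - i, by rw [map_mul, h1, h2, sr_mul_sr]⟩
    have ht1 : t ≠ 1 := fun h => by rw [h, orderOf_one] at ht; norm_num at ht
    have huniq : ∀ x y : R, IsRot x → IsRot y → x ≠ 1 → y ≠ 1 → x = y := fun x y hx hy =>
      rot_uniq x y hx hy (hsq x) (hsq y)
    -- every element is `1`, `t`, `x` or `t * x`
    have hfour : ∀ x y : R, x ≠ 1 → x ≠ t → y ≠ 1 → y ≠ t → y = x ∨ y = t * x := by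
      intro x y hx1 hxt hy1 hyt
      by_contra hcon
      push Not at hcon
      obtain ⟨hyx, hytx⟩ := hcon
      have hxy1 : x * y ≠ 1 := fun h => hyx ((eq_inv_of_mul_eq_one_right h).trans (hinv x))
      have htx1 : t * x ≠ 1 := fun h => hxt ((eq_inv_of_mul_eq_one_right h).trans (hinv t))
      have hty1 : t * y ≠ 1 := fun h => hyt ((eq_inv_of_mul_eq_one_right h).trans (hinv t))
      rcases Classical.em (IsRot t) with htr | htr <;> rcases Classical.em (IsRot x) with hxr | hxr <;>
        rcases Classical.em (IsRot y) with hyr | hyr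
      · exact hxt (huniq _ _ hxr htr hx1 ht1)
      · exact hxt (huniq _ _ hxr htr hx1 ht1)
      · exact hyt (huniq _ _ hyr htr hy1 ht1)
      · have := huniq _ _ (hdiff x y hxr hyr) htr hxy1 ht1
        exact hytx (by rw [← this, hcomm x y, mul_assoc, hsq, mul_one])
      · exact hyx (huniq _ _ hyr hxr hy1 hx1)
      · have := huniq _ _ (hdiff t y htr hyr) hxr hty1 hx1
        exact hytx (by rw [← this, ← mul_assoc, hsq, one_mul])
      · have := huniq _ _ (hdiff t x htr hxr) hyr htx1 hy1
        exact hytx this.symm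
      · have := huniq _ _ (hdiff t x htr hxr) (hdiff t y htr hyr) htx1 hty1
        exact hyx (mul_left_cancel this).symm
    ext x
    rw [MulAut.one_apply]
    by_cases hx1 : x = 1
    · rw [hx1, map_one]
    by_cases hxt : x = t
    · rw [hxt, hfix]
    rcases hfour x (φ x) hx1 hxt (fun h => hx1 (φ.injective (h.trans (map_one φ).symm)))
      (fun h => hxt (φ.injective (h.trans hfix.symm))) with h | h
    · exact h
    · exact absurd (hshift (c := x) hfix (h.trans (hcomm t x)) (a := 1) (by rw [pow_one, pow_two, hsq]))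
        ht1

end Cfsg.Agent.Classif
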