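import Cfsg.Prelude.Def_Transfer
import Mathlib.GroupTheory.Sylow
import Mathlib.GroupTheory.Subgroup.Centralizer

/-!
Elementary facts on elementary abelian 2-subgroups.
-/

open Subgroup

namespace Cfsg.Agent.Classif

variable {G : Type*} [Group G]

theorem elemAb_commute {A : Subgroup G} {p : ℕ} (hA : IsElementaryAbelian p A) {a b : G}
    (ha : a ∈ A) (hb : b ∈ A) : a * b = b * a :=
  congrArg Subtype.val ((isMulCommutative_iff.mp hA.1) ⟨a, ha⟩ ⟨b, hb⟩)

theorem elemAb_of_le {A B : Subgroup G} {p : ℕ} (hA : IsElementaryAbelian p A) (h : B ≤ A) :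
    IsElementaryAbelian p B :=
  ⟨isMulCommutative_iff.mpr fun a b => Subtype.ext (elemAb_commute hA (h a.2) (h b.2)),
    fun a ha => hA.2 a (h ha)⟩

/-- A subgroup generated by commuting elements of order dividing `p` is elementary abelian. -/
theorem elemAb_closure {S : Set G} {p : ℕ} (hc : ∀ a ∈ S, ∀ b ∈ S, a * b = b * a)
    (hp : ∀ a ∈ S, a ^ p = 1) : IsElementaryAbelian p (Subgroup.closure S) := by
  have hm : IsMulCommutative ↥(Subgroup.closure S) := isMulCommutative_closure hc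
  refine ⟨hm, fun a ha => ?_⟩
  induction ha using closure_induction with
  | mem a ha => exact hp a ha
  | one => exact one_pow p
  | mul a b ha hb h1 h2 =>
    have hcomm : Commute a b := congrArg Subtype.val ((isMulCommutative_iff.mp hm) ⟨a, ha⟩ ⟨b, hb⟩)
    rw [hcomm.mul_pow, h1, h2, one_mul]
  | inv a _ h1 => rw [inv_pow, h1, inv_one]

/-- The join of two elementwise commuting elementary abelian subgroups is elementary abelian. -/
theorem elemAb_sup {A B : Subgroup G} {p : ℕ} (hA : IsElementaryAbelian p A) (hB : IsElementaryAbelian p B)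
    (h : ∀ a ∈ A, ∀ b ∈ B, a * b = b * a) : IsElementaryAbelian p (A ⊔ B) := by
  rw [sup_eq_closure]
  refine elemAb_closure ?_ ?_
  · rintro a (ha | ha) b (hb | hb)
    · exact elemAb_commute hA ha hb
    · exact h a ha b hb
    · exact (h b hb a ha).symm
    · exact elemAb_commute hB ha hb
  · rintro a (ha | ha)
    · exact hA.2 a ha
    · exact hB.2 a ha

variable [Finite G]

theorem elemAb_card_eq_pow {A : Subgroup G} {p : ℕ} [Fact p.Prime] (hA : IsElementaryAbelian p A) :
    ∃ n : ℕ, Nat.card A = p ^ n := by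
  refine IsPGroup.iff_card.mp fun a => ⟨1, Subtype.ext ?_⟩
  rw [pow_one]; exact hA.2 a a.2

/-- `|W| ≤ |C_W(t)|²` for an involutory action on an abelian group. -/
theorem card_le_sq_centralizer {W : Subgroup G} (hW : IsElementaryAbelian 2 W) {t : G}
    (hn : ∀ w ∈ W, t * w * t⁻¹ ∈ W) (ht : t ^ 2 = 1) :
    Nat.card W ≤ Nat.card ↥(W ⊓ Subgroup.centralizer ({t} : Set G)) ^ 2 := by
  let f : ↥W →* ↥W :=
    { toFun := fun w => ⟨t * w * t⁻¹ * w, mul_mem (hn w w.2) w.2⟩
      map_one' := Subtype.ext (by simp)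
      map_mul' := fun a b => Subtype.ext (by
        have h1 := elemAb_commute hW a.2 (hn b b.2)
        show t * (a * b : G) * t⁻¹ * (a * b : G) = (t * a * t⁻¹ * a) * (t * b * t⁻¹ * b)
        calc t * (a * b : G) * t⁻¹ * (a * b : G)
            = (t * a * t⁻¹) * ((t * b * t⁻¹) * a) * b := by group
          _ = (t * a * t⁻¹) * (a * (t * b * t⁻¹)) * b := by rw [h1]
          _ = _ := by group) }
  have hsqinv : ∀ w : G, w ∈ W → w⁻¹ = w := fun w hw =>
    inv_eq_of_mul_eq_one_right (by rw [← pow_two]; exact hW.2 w hw)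
  have hk : f.ker.map W.subtype ≤ W ⊓ Subgroup.centralizer ({t} : Set G) := by
    rintro _ ⟨w, hw, rfl⟩
    refine ⟨w.2, mem_centralizer_singleton_iff.mpr ?_⟩
    have h : t * w * t⁻¹ * (w : G) = 1 := congrArg Subtype.val (MonoidHom.mem_ker.mp hw)
    rw [mul_eq_one_iff_eq_inv, hsqinv _ w.2, mul_inv_eq_iff_eq_mul] at h
    exact h.symm
  have hr : f.range.map W.subtype ≤ W ⊓ Subgroup.centralizer ({t} : Set G) := by
    rintro _ ⟨_, ⟨w, rfl⟩, rfl⟩
    refine ⟨(f w).2, mem_centralizer_singleton_iff.mpr ?_⟩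
    show t * w * t⁻¹ * w * t = t * (t * w * t⁻¹ * w)
    have htt : t⁻¹ = t := inv_eq_of_mul_eq_one_right (by rw [← pow_two]; exact ht)
    rw [elemAb_commute hW (hn w w.2) w.2]
    calc (w : G) * (t * w * t⁻¹) * t = w * t * w := by group
      _ = (t * t) * w * t⁻¹ * w := by rw [← pow_two, ht, one_mul, htt]
      _ = t * (t * w * t⁻¹ * w) := by group
      _ = t * ((w : G) * (t * w * t⁻¹)) := by rw [elemAb_commute hW (hn w w.2) w.2]
  have hcard : Nat.card W = Nat.card f.ker * Nat.card f.range := by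
    rw [← Subgroup.index_ker, Subgroup.card_mul_index]
  rw [hcard, ← Subgroup.card_subtype W f.ker, ← Subgroup.card_subtype W f.range, pow_two]
  exact Nat.mul_le_mul (Nat.le_of_dvd Nat.card_pos (card_dvd_of_le hk))
    (Nat.le_of_dvd Nat.card_pos (card_dvd_of_le hr))

/-- Inside an elementary abelian group, a small subgroup extends to one of order `p ^ m`. -/
theorem exists_le_card {F H : Subgroup G} {p : ℕ} [Fact p.Prime] (hF : IsElementaryAbelian p F)
    (hH : H ≤ F) {m : ℕ} (hm : p ^ m ≤ Nat.card F) (hHm : Nat.card H ≤ p ^ m) :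
    ∃ K : Subgroup G, H ≤ K ∧ K ≤ F ∧ Nat.card K = p ^ m ∧ IsElementaryAbelian p K := by
  obtain ⟨k, hk⟩ := elemAb_card_eq_pow hF
  obtain ⟨j, hj⟩ := elemAb_card_eq_pow (elemAb_of_le hF hH)
  have h1 : m ≤ k := by rw [hk] at hm; exact (Nat.pow_le_pow_iff_right (Fact.out : p.Prime).one_lt).mp hm
  have h2 : j ≤ m := by rw [hj] at hHm; exact (Nat.pow_le_pow_iff_right (Fact.out : p.Prime).one_lt).mp hHm
  obtain ⟨K, hK, hHK⟩ := Sylow.exists_subgroup_card_pow_prime_le (G := ↥F) p (m := m)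
    (by rw [hk]; exact pow_dvd_pow _ h1) (H.subgroupOf F)
    ((Nat.card_congr (subgroupOfEquivOfLe hH).toEquiv).trans hj) h2
  refine ⟨K.map F.subtype, fun x hx => ⟨⟨x, hH hx⟩, hHK hx, rfl⟩, map_subtype_le _, ?_,
    elemAb_of_le hF (map_subtype_le _)⟩
  rw [card_subtype, hK]

end Cfsg.Agent.Classif
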