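import Cfsg.Prelude.Def_Local
import Cfsg.Prelude.Def_LocalEven
import Cfsg.Prelude.Def_CaseTheorems
import Cfsg.Agent.Classif.Elementary
import Cfsg.Agent.CharTwo.Constrained
import Cfsg.Agent.PGroup.Critical
import Cfsg.Agent.Coprime.Generation
import Cfsg.Agent.Signalizer.Generation

/-!
# The 2-local p-rank of groups of characteristic p type and characteristic 2 type

Elementary 2-subgroups centralising large elementary abelian `p`-subgroups are small, and this
bounds the rank of an elementary abelian `p`-subgroup of a 2-local subgroup by 2.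
-/

set_option autoImplicit false
set_option linter.all false

open Subgroup
open scoped commutatorElement

namespace Cfsg.Agent.Classif.BicharRank

variable {G : Type*} [Group G]

/-- `E` normalises a nontrivial 2-subgroup. -/
def InTwoLocal (E : Subgroup G) : Prop :=
  ∃ T : Subgroup G, IsPGroup 2 T ∧ T ≠ ⊥ ∧ E ≤ normalizer (T : Set G)

/-- Every elementary abelian 2-subgroup centralising an elementary abelian `p`-subgroup of order
at least `p ^ j` has order at most `2 ^ k`. -/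
def Bound (p : ℕ) (G : Type*) [Group G] (j k : ℕ) : Prop :=
  ∀ B X : Subgroup G, Cfsg.IsElementaryAbelian p B → p ^ j ≤ Nat.card B →
    Cfsg.IsElementaryAbelian 2 X → X ≤ centralizer (B : Set G) → Nat.card X ≤ 2 ^ k

variable [Finite G]

/-! ### General facts -/

theorem elem_zpowers {q : ℕ} {a : G} (ha : a ^ q = 1) : Cfsg.IsElementaryAbelian q (zpowers a) := by
  refine ⟨inferInstance, ?_⟩
  rintro _ ⟨i, rfl⟩
  show (a ^ i) ^ q = 1
  rw [← zpow_natCast, ← zpow_mul, mul_comm, zpow_mul, zpow_natCast, ha, one_zpow]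

theorem elem_sup_zpowers {q : ℕ} {X : Subgroup G} {a : G} (hX : Cfsg.IsElementaryAbelian q X)
    (ha : a ^ q = 1) (hc : ∀ x ∈ X, Commute x a) :
    Cfsg.IsElementaryAbelian q (X ⊔ zpowers a) :=
  elemAb_sup hX (elem_zpowers ha) (by rintro x hx _ ⟨i, rfl⟩; exact (hc x hx).zpow_right i)

theorem card_mul_le_sup_zpowers {q : ℕ} [Fact q.Prime] {X : Subgroup G} {a : G}
    (hX : Cfsg.IsElementaryAbelian q (X ⊔ zpowers a)) (ha : a ∉ X) :
    Nat.card X * q ≤ Nat.card ↥(X ⊔ zpowers a) :=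
  Signalizer.mul_prime_le_card_of_lt (Signalizer.elemAb_isPGroup hX)
    (lt_of_le_of_ne le_sup_left fun h => ha (h ▸ mem_sup_right (mem_zpowers a)))

theorem card_mul_le_card_inf {A B X : Subgroup G} (hA : A ≤ X) (hB : B ≤ X) :
    Nat.card A * Nat.card B ≤ Nat.card ↥(A ⊓ B) * Nat.card X := by
  have h1 : Nat.card ↥(A ⊓ B) * B.relIndex A = Nat.card A := by
    rw [← inf_relIndex_left A B, ← relIndex_bot_left,
      relIndex_mul_relIndex _ _ _ bot_le inf_le_left, relIndex_bot_left]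
  have h2 : Nat.card B * B.relIndex X = Nat.card X := by
    rw [← relIndex_bot_left, relIndex_mul_relIndex _ _ _ bot_le hB, relIndex_bot_left]
  have h3 : B.relIndex A ≤ B.relIndex X :=
    relIndex_le_of_le_right hA (by intro h; rw [h, mul_zero] at h2; exact Nat.card_pos.ne' h2.symm)
  rw [← h1, ← h2]
  calc Nat.card ↥(A ⊓ B) * B.relIndex A * Nat.card B
      ≤ Nat.card ↥(A ⊓ B) * B.relIndex X * Nat.card B :=
        Nat.mul_le_mul_right _ (Nat.mul_le_mul_left _ h3)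
    _ = _ := by ring

theorem coprime_two_orderOf {p : ℕ} [hp : Fact p.Prime] (hp2 : p ≠ 2) {A : Subgroup G}
    (hA : Cfsg.IsElementaryAbelian p A) {a : G} (ha : a ∈ A) : (orderOf a).Coprime 2 :=
  Nat.Coprime.coprime_dvd_left (orderOf_dvd_of_pow_eq_one (hA.2 a ha))
    ((Nat.coprime_primes hp.out Nat.prime_two).2 hp2)

theorem commute_of_conj_mem_pair {x r t : G} (hx : (orderOf x).Coprime 2) (ht : t ^ 2 = 1)
    (hxt : Commute x t) (h : x * r * x⁻¹ = r ∨ x * r * x⁻¹ = t * r) : Commute x r := by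
  haveI : Fact (Nat.Prime 2) := ⟨Nat.prime_two⟩
  rcases h with h | h
  · exact mul_inv_eq_iff_eq_mul.1 h
  · exact CharTwo.commute_of_conj_eq_mul ⟨1, by rw [pow_one]; exact ht⟩ hx hxt h

/-- A subgroup of order at most 4 containing a fixed involution is fixed pointwise. -/
theorem commute_of_card_le_four {W : Subgroup G} (hcard : Nat.card W ≤ 4) {a s : G}
    (ha : (orderOf a).Coprime 2) (hW : a ∈ normalizer (W : Set G)) (hs : s ∈ W) (hs1 : s ≠ 1)
    (hs2 : s ^ 2 = 1) (has : Commute a s) : ∀ w ∈ W, Commute a w := by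
  classical
  intro w hw
  by_cases h1 : w = 1
  · subst h1; exact Commute.one_right a
  by_cases h2 : w = s
  · subst h2; exact has
  refine commute_of_conj_mem_pair ha hs2 has ?_
  by_contra hne
  push Not at hne
  have hv : a * w * a⁻¹ ∈ W := (mem_normalizer_iff.1 hW w).1 hw
  have hv1 : a * w * a⁻¹ ≠ 1 := by
    intro h
    exact h1 (conj_eq_one_iff.1 h)
  have hvs : a * w * a⁻¹ ≠ s := by
    intro h
    refine h2 (mul_left_cancel (a := a) ?_)
    rw [has.eq, ← h]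
    group
  have hsw1 : s * w ≠ 1 := fun h => h2 (mul_left_cancel (a := s) (by rw [h, ← pow_two, hs2]))
  have hsws : s * w ≠ s := fun h => h1 (mul_eq_left.1 h)
  have hsww : s * w ≠ w := fun h => hs1 (mul_eq_right.1 h)
  let F : Finset G := {1, s, w, s * w, a * w * a⁻¹}
  have h5 : F.card = 5 := by
    simp only [F]
    rw [Finset.card_insert_of_notMem, Finset.card_insert_of_notMem, Finset.card_insert_of_notMem,
      Finset.card_insert_of_notMem, Finset.card_singleton]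
    · simpa using Ne.symm hne.2
    · simp only [Finset.mem_insert, Finset.mem_singleton, not_or]
      exact ⟨Ne.symm hsww, Ne.symm hne.1⟩
    · simp only [Finset.mem_insert, Finset.mem_singleton, not_or]
      exact ⟨Ne.symm h2, Ne.symm hsws, Ne.symm hvs⟩
    · simp only [Finset.mem_insert, Finset.mem_singleton, not_or]
      exact ⟨Ne.symm hs1, Ne.symm h1, Ne.symm hsw1, Ne.symm hv1⟩
  have hsub : (F : Set G) ⊆ (W : Set G) := by
    intro z hz
    simp only [F, Finset.coe_insert, Finset.coe_singleton, Set.mem_insert_iff,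
      Set.mem_singleton_iff] at hz
    rcases hz with rfl | rfl | rfl | rfl | rfl
    · exact one_mem W
    · exact hs
    · exact hw
    · exact mul_mem hs hw
    · exact hv
  have h6 := Set.ncard_le_ncard hsub (Set.toFinite _)
  rw [Set.ncard_coe_finset, h5, ← Nat.card_coe_set_eq] at h6
  exact absurd (le_trans h6 hcard) (by norm_num)

/-- A subgroup of order at most 2 is fixed pointwise by whatever normalises it. -/
theorem commute_of_card_le_two {W : Subgroup G} (hcard : Nat.card W ≤ 2) {a : G}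
    (hW : a ∈ normalizer (W : Set G)) : ∀ w ∈ W, Commute a w := by
  classical
  intro w hw
  by_cases h1 : w = 1
  · subst h1; exact Commute.one_right a
  by_contra hne
  have hv : a * w * a⁻¹ ∈ W := (mem_normalizer_iff.1 hW w).1 hw
  have hv1 : a * w * a⁻¹ ≠ 1 := by
    intro h
    exact h1 (conj_eq_one_iff.1 h)
  have hvw : a * w * a⁻¹ ≠ w := fun h => hne (mul_inv_eq_iff_eq_mul.1 h)
  let F : Finset G := {1, w, a * w * a⁻¹}
  have h3 : F.card = 3 := by
    simp only [F]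
    rw [Finset.card_insert_of_notMem, Finset.card_insert_of_notMem, Finset.card_singleton]
    · simpa using Ne.symm hvw
    · simp only [Finset.mem_insert, Finset.mem_singleton, not_or]
      exact ⟨Ne.symm h1, Ne.symm hv1⟩
  have hsub : (F : Set G) ⊆ (W : Set G) := by
    intro z hz
    simp only [F, Finset.coe_insert, Finset.coe_singleton, Set.mem_insert_iff,
      Set.mem_singleton_iff] at hz
    rcases hz with rfl | rfl | rfl
    · exact one_mem W
    · exact hw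
    · exact hv
  have h6 := Set.ncard_le_ncard hsub (Set.toFinite _)
  rw [Set.ncard_coe_finset, h3, ← Nat.card_coe_set_eq] at h6
  exact absurd (le_trans h6 hcard) (by norm_num)

theorem eq_or_eq_of_card_le_two {W : Subgroup G} (hcard : Nat.card W ≤ 2) {t z : G}
    (ht : t ∈ W) (ht1 : t ≠ 1) (hz : z ∈ W) : z = 1 ∨ z = t := by
  classical
  by_contra h
  push Not at h
  let F : Finset G := {1, t, z}
  have h3 : F.card = 3 := by
    simp only [F]
    rw [Finset.card_insert_of_notMem, Finset.card_insert_of_notMem, Finset.card_singleton]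
    · simpa using Ne.symm h.2
    · simp only [Finset.mem_insert, Finset.mem_singleton, not_or]
      exact ⟨Ne.symm ht1, Ne.symm h.1⟩
  have hsub : (F : Set G) ⊆ (W : Set G) := by
    intro z' hz'
    simp only [F, Finset.coe_insert, Finset.coe_singleton, Set.mem_insert_iff,
      Set.mem_singleton_iff] at hz'
    rcases hz' with rfl | rfl | rfl
    · exact one_mem W
    · exact ht
    · exact hz
  have h6 := Set.ncard_le_ncard hsub (Set.toFinite _)
  rw [Set.ncard_coe_finset, h3, ← Nat.card_coe_set_eq] at h6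
  exact absurd (le_trans h6 hcard) (by norm_num)

theorem exists_pow_orderOf {q : ℕ} [hq : Fact q.Prime] {W : Subgroup G} (hW : IsPGroup q W)
    {z : G} (hz : z ∈ W) (hz1 : z ≠ 1) : ∃ i : ℕ, orderOf (z ^ i) = q := by
  obtain ⟨k, hk⟩ := hW ⟨z, hz⟩
  obtain ⟨m, -, hm⟩ := (Nat.dvd_prime_pow hq.out).1
    (orderOf_dvd_of_pow_eq_one (show z ^ q ^ k = 1 by simpa [Subtype.ext_iff] using hk))
  cases m with
  | zero => exact absurd (orderOf_eq_one_iff.1 (by rw [hm, pow_zero])) hz1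
  | succ m =>
    refine ⟨q ^ m, ?_⟩
    rw [orderOf_pow' z (pow_ne_zero _ hq.out.ne_zero), hm,
      Nat.gcd_eq_right (pow_dvd_pow q (Nat.le_succ m)), Nat.pow_div (Nat.le_succ m) hq.out.pos,
      Nat.succ_sub le_rfl, Nat.sub_self, pow_one]

theorem mem_of_sq_mem {p : ℕ} [hp : Fact p.Prime] (hp2 : p ≠ 2) {w : G} (hw : w ^ p = 1)
    {K : Subgroup G} (h : w ^ 2 ∈ K) : w ∈ K := by
  obtain ⟨m, hm⟩ := hp.out.odd_of_ne_two hp2
  have h1 : (w ^ 2) ^ (m + 1) = w := by
    rw [← pow_mul, show 2 * (m + 1) = p + 1 by omega, pow_succ, hw, one_mul]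
  rw [← h1]
  exact K.pow_mem h _

/-! ### The cores of local subgroups -/

/-- The `q`-core of a subgroup, inside the whole group. -/
def coreIn (q : ℕ) (H : Subgroup G) : Subgroup G := (Cfsg.pCore q H).map H.subtype

theorem coreIn_le (q : ℕ) (H : Subgroup G) : coreIn q H ≤ H := map_subtype_le _

theorem coreIn_isPGroup (q : ℕ) (H : Subgroup G) : IsPGroup q (coreIn q H) :=
  Cores.pCore_isPGroup.map _

theorem le_normalizer_coreIn (q : ℕ) (H : Subgroup G) :
    H ≤ normalizer (coreIn q H : Set G) := by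
  refine Subgroup.le_normalizer_iff.2 ?_
  rintro a ha _ ⟨x, hx, rfl⟩
  refine ⟨⟨a, ha⟩ * x * ⟨a, ha⟩⁻¹, ?_, rfl⟩
  haveI : (Cfsg.pCore q H).Normal := inferInstance
  exact Subgroup.Normal.conj_mem inferInstance x hx _

theorem le_coreIn {q : ℕ} {H W : Subgroup G} (hW : IsPGroup q W) (hWH : W ≤ H)
    (hn : H ≤ normalizer (W : Set G)) : W ≤ coreIn q H := by
  haveI : (W.subgroupOf H).Normal := ⟨fun n hn' g => (mem_normalizer_iff.1 (hn g.2) (n : G)).1 hn'⟩
  have h := Cores.le_pCore (this) hW.comap_subtype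
  intro x hx
  exact ⟨⟨x, hWH hx⟩, h hx, rfl⟩

theorem inf_centralizer_coreIn_le {q : ℕ} {H : Subgroup G}
    (h : centralizer (Cfsg.pCore q H : Set H) ≤ Cfsg.pCore q H) :
    H ⊓ centralizer (coreIn q H : Set G) ≤ coreIn q H := by
  intro x hx
  refine ⟨⟨x, hx.1⟩, h ?_, rfl⟩
  intro r hr
  exact Subtype.ext (mem_centralizer_iff.1 hx.2 r ⟨r, hr, rfl⟩)

/-- In a group of local characteristic `p`, a `p'`-element centralising a nontrivial
`p`-subgroup `P` and the `p`-core of its centralizer is trivial. -/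
theorem eq_one_of_centralizes_core {p : ℕ} [hp : Fact p.Prime]
    (hG : Cfsg.IsOfLocalCharacteristic p G) {P : Subgroup G} (hP : IsPGroup p P) (hP1 : P ≠ ⊥)
    {x : G} (hx : (orderOf x).Coprime p) (hxP : x ∈ centralizer (P : Set G))
    (hxU : x ∈ centralizer (coreIn p (centralizer (P : Set G)) : Set G)) : x = 1 := by
  have hCN : centralizer (P : Set G) ≤ normalizer (P : Set G) :=
    CharTwo.normalizer_le_centralizer_of_coe P
  have hR := coreIn_isPGroup p (normalizer (P : Set G))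
  have hRn := le_normalizer_coreIn p (normalizer (P : Set G))
  have hCn : centralizer (P : Set G) ≤
      normalizer ((centralizer (P : Set G) ⊓ coreIn p (normalizer (P : Set G)) : Subgroup G) :
        Set G) :=
    Signalizer.le_normalizer_inf le_normalizer (hCN.trans hRn)
  have hsub := le_coreIn (hR.to_le inf_le_right) inf_le_left hCn
  have h := CharTwo.pxq hR hP (le_normalizer.trans hRn) (hRn (hCN hxP)) hx hxP
    (Subgroup.centralizer_le (SetLike.coe_subset_coe.2 hsub) hxU)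
  exact CharTwo.eq_one_of_coprime_of_mem hR
    (inf_centralizer_coreIn_le (hG.2 P hP hP1) ⟨hCN hxP, h⟩) hx

/-- The facts used on the 2-core of a 2-local subgroup. -/
theorem twoLocal_core (hG : Cfsg.IsCharacteristicTwoType G) {T : Subgroup G}
    (hT : IsPGroup 2 T) (hT1 : T ≠ ⊥) :
    T ≤ coreIn 2 (normalizer (T : Set G)) ∧
      normalizer (T : Set G) ⊓ centralizer (coreIn 2 (normalizer (T : Set G)) : Set G) ≤
        coreIn 2 (normalizer (T : Set G)) :=
  ⟨le_coreIn hT le_normalizer le_rfl, inf_centralizer_coreIn_le (hG.2 T hT hT1)⟩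

/-- A critical subgroup of a `q`-subgroup, inside the whole group. -/
theorem exists_critical {q : ℕ} [Fact q.Prime] (O : Subgroup G) (hO : IsPGroup q O) :
    ∃ C : Subgroup G, C ≤ O ∧ normalizer (O : Set G) ≤ normalizer (C : Set G) ∧
      (∀ x ∈ C, ∀ y ∈ O, ⁅x, y⁆ ∈ centralizer (C : Set G)) ∧
      (∀ x ∈ C, x ^ q ∈ centralizer (C : Set G)) ∧
      O ⊓ centralizer (C : Set G) ≤ C := by
  obtain ⟨C, hC⟩ := PGroup.exists_isCriticalSubgroup hO
  haveI := hC.characteristic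
  refine ⟨C.map O.subtype, map_subtype_le _,
    Coprime.normalizer_le_normalizer_map_characteristic O C, ?_, ?_, ?_⟩
  · rintro _ ⟨x, hx, rfl⟩ y hy
    rintro _ ⟨c, hc, rfl⟩
    exact congrArg Subtype.val
      (mem_centralizer_iff.1 (hC.commutator_le (commutator_mem_commutator hx
        (mem_top (⟨y, hy⟩ : O)))) c hc)
  · rintro _ ⟨x, hx, rfl⟩
    rintro _ ⟨c, hc, rfl⟩
    exact congrArg Subtype.val (mem_centralizer_iff.1 (hC.pow_mem x hx) c hc)
  · intro x hx
    refine ⟨⟨x, hx.1⟩, hC.centralizer_le ?_, rfl⟩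
    intro c hc
    exact Subtype.ext (mem_centralizer_iff.1 hx.2 c ⟨c, hc, rfl⟩)

/-- An element of order prime to `q` centralising a critical subgroup centralises the group. -/
theorem mem_centralizer_of_critical {q : ℕ} [Fact q.Prime] {O C : Subgroup G}
    (hO : IsPGroup q O) (hCO : C ≤ O) (hn : normalizer (O : Set G) ≤ normalizer (C : Set G))
    (hc : O ⊓ centralizer (C : Set G) ≤ C)
    {b : G} (hb : b ∈ normalizer (O : Set G)) (hbo : (orderOf b).Coprime q)
    (hbC : b ∈ centralizer (C : Set G)) : b ∈ centralizer (O : Set G) := by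
  intro y hy
  have ht : b * y * b⁻¹ * y⁻¹ ∈ O := O.mul_mem ((mem_normalizer_iff.1 hb y).1 hy) (O.inv_mem hy)
  have htC : b * y * b⁻¹ * y⁻¹ ∈ centralizer (C : Set G) := by
    intro c hc'
    have h1 : y⁻¹ * c * y ∈ C := (mem_normalizer_iff''.1 (hn (le_normalizer hy)) c).1 hc'
    have h2 : b * (y⁻¹ * c * y) * b⁻¹ = y⁻¹ * c * y := by
      rw [← mem_centralizer_iff.1 hbC _ h1, mul_inv_cancel_right]
    have h3 : b * c * b⁻¹ = c := by
      rw [← mem_centralizer_iff.1 hbC _ hc', mul_inv_cancel_right]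
    refine (mul_inv_eq_iff_eq_mul.1 ?_).symm
    calc b * y * b⁻¹ * y⁻¹ * c * (b * y * b⁻¹ * y⁻¹)⁻¹
        = b * y * (b⁻¹ * (y⁻¹ * c * y) * b) * y⁻¹ * b⁻¹ := by group
      _ = b * y * (y⁻¹ * c * y) * y⁻¹ * b⁻¹ := by
          rw [show b⁻¹ * (y⁻¹ * c * y) * b = y⁻¹ * c * y by
            conv_lhs => rw [← h2]
            group]
      _ = b * c * b⁻¹ := by group
      _ = c := h3
  have htb : Commute b (b * y * b⁻¹ * y⁻¹) :=
    (mem_centralizer_iff.1 hbC _ (hc ⟨ht, htC⟩)).symm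
  obtain ⟨k, hk⟩ := hO ⟨_, ht⟩
  exact (CharTwo.commute_of_conj_eq_mul ⟨k, by simpa [Subtype.ext_iff] using hk⟩ hbo htb
    (by group)).eq.symm

/-! ### The involutions in the centre of a 2-subgroup -/

theorem exists_omega (C : Subgroup G) :
    ∃ Z : Subgroup G, Z ≤ C ∧ Cfsg.IsElementaryAbelian 2 Z ∧
      normalizer (C : Set G) ≤ normalizer (Z : Set G) ∧
      ∀ z : G, z ∈ Z ↔ z ∈ C ⊓ centralizer (C : Set G) ∧ z ^ 2 = 1 := by
  have hcomm : ∀ a b : G, a ∈ C ⊓ centralizer (C : Set G) → b ∈ C ⊓ centralizer (C : Set G) →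
      Commute a b := fun a b ha hb => (mem_centralizer_iff.1 hb.2 a ha.1)
  let Z : Subgroup G :=
    { carrier := {z | z ∈ C ⊓ centralizer (C : Set G) ∧ z ^ 2 = 1}
      one_mem' := ⟨one_mem _, one_pow 2⟩
      mul_mem' := fun {a b} ha hb => ⟨mul_mem ha.1 hb.1, by
        rw [(hcomm a b ha.1 hb.1).mul_pow, ha.2, hb.2, one_mul]⟩
      inv_mem' := fun {a} ha => ⟨inv_mem ha.1, by rw [inv_pow, ha.2, inv_one]⟩ }
  refine ⟨Z, fun z hz => hz.1.1, ⟨⟨⟨fun a b => Subtype.ext (hcomm a b a.2.1 b.2.1).eq⟩⟩,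
    fun a ha => ha.2⟩, ?_, fun z => Iff.rfl⟩
  refine Subgroup.le_normalizer_iff.2 fun a ha z hz => ⟨⟨(mem_normalizer_iff.1 ha z).1 hz.1.1,
    ?_⟩, by rw [conj_pow, hz.2, mul_one, mul_inv_cancel]⟩
  intro c hc
  have h1 : a⁻¹ * c * a ∈ C := (mem_normalizer_iff''.1 ha c).1 hc
  have h2 := mem_centralizer_iff.1 hz.1.2 _ h1
  calc c * (a * z * a⁻¹) = a * ((a⁻¹ * c * a) * z) * a⁻¹ := by group
    _ = a * (z * (a⁻¹ * c * a)) * a⁻¹ := by rw [h2]
    _ = a * z * a⁻¹ * c := by group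

/-- Fixing the involutions of the centre, an element of odd order fixes the centre. -/
theorem commute_center_of_omega {C : Subgroup G} (hC : IsPGroup 2 C) {a : G}
    (ha : a ∈ normalizer (C : Set G)) (hao : (orderOf a).Coprime 2)
    (h : ∀ z ∈ C ⊓ centralizer (C : Set G), z ^ 2 = 1 → Commute a z) :
    ∀ z ∈ C ⊓ centralizer (C : Set G), Commute a z := by
  haveI : Fact (Nat.Prime 2) := ⟨Nat.prime_two⟩
  suffices h' : ∀ k : ℕ, ∀ z ∈ C ⊓ centralizer (C : Set G), z ^ 2 ^ k = 1 → Commute a z by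
    intro z hz
    obtain ⟨k, hk⟩ := hC ⟨z, hz.1⟩
    exact h' k z hz (by simpa [Subtype.ext_iff] using hk)
  intro k
  induction k with
  | zero =>
    intro z hz hk
    rw [pow_zero, pow_one] at hk
    subst hk
    exact Commute.one_right a
  | succ k ih =>
    intro z hz hk
    have h1 : Commute a (z ^ 2) := ih _ (pow_mem hz 2) (by rw [← pow_mul, ← pow_succ']; exact hk)
    have hcz : a * z * a⁻¹ ∈ centralizer (C : Set G) := by
      intro c hc
      have h1 : a⁻¹ * c * a ∈ C := (mem_normalizer_iff''.1 ha c).1 hc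
      have h2 := mem_centralizer_iff.1 hz.2 _ h1
      calc c * (a * z * a⁻¹) = a * ((a⁻¹ * c * a) * z) * a⁻¹ := by group
        _ = a * (z * (a⁻¹ * c * a)) * a⁻¹ := by rw [h2]
        _ = a * z * a⁻¹ * c := by group
    have hzc : a * z * a⁻¹ ∈ C := (mem_normalizer_iff.1 ha z).1 hz.1
    have hmem : a * z * a⁻¹ * z⁻¹ ∈ C ⊓ centralizer (C : Set G) :=
      mem_inf.2 ⟨mul_mem hzc (inv_mem hz.1), mul_mem hcz (inv_mem hz.2)⟩
    have hsq : (a * z * a⁻¹ * z⁻¹) ^ 2 = 1 := by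
      have hc : Commute (a * z * a⁻¹) z⁻¹ :=
        (show Commute (a * z * a⁻¹) z from mem_centralizer_iff.1 hz.2 _ hzc).inv_right
      rw [hc.mul_pow, conj_pow, h1.eq, mul_inv_cancel_right, inv_pow, mul_inv_cancel]
    exact CharTwo.commute_of_conj_eq_mul ⟨1, by rw [pow_one]; exact hsq⟩ hao (h _ hmem hsq)
      (by group)

/-! ### A 2-group with central involution `t` acted on by an elementary abelian `p`-group -/

/-- `C` is a 2-group with squares and commutators in its centre, whose centre is fixed by `A` and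
has `t` as only involution. -/
structure Setting (C A : Subgroup G) (t : G) : Prop where
  two : IsPGroup 2 C
  norm : A ≤ normalizer (C : Set G)
  odd : ∀ a ∈ A, (orderOf a).Coprime 2
  t_mem : t ∈ C ⊓ centralizer (C : Set G)
  t_sq : t ^ 2 = 1
  fixed : ∀ z ∈ C ⊓ centralizer (C : Set G), ∀ a ∈ A, Commute a z
  omega : ∀ z ∈ C ⊓ centralizer (C : Set G), z ^ 2 = 1 → z = 1 ∨ z = t
  comm_mem : ∀ x ∈ C, ∀ y ∈ C, ⁅x, y⁆ ∈ centralizer (C : Set G)
  sq_mem : ∀ x ∈ C, x ^ 2 ∈ centralizer (C : Set G)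

variable {C A : Subgroup G} {t : G}

theorem Setting.commutator_cases (S : Setting C A t) {x y : G} (hx : x ∈ C) (hy : y ∈ C) :
    ⁅x, y⁆ = 1 ∨ ⁅x, y⁆ = t := by
  have hm : ⁅x, y⁆ ∈ C := by
    rw [commutatorElement_def]
    exact mul_mem (mul_mem (mul_mem hx hy) (inv_mem hx)) (inv_mem hy)
  refine S.omega _ ⟨hm, S.comm_mem x hx y hy⟩ ?_
  have h1 : ⁅x ^ 2, y⁆ = 1 :=
    Commute.commutator_eq (mem_centralizer_iff.1 (S.sq_mem x hx) y hy).symm
  have h2 : x * ⁅x, y⁆ * x⁻¹ = ⁅x, y⁆ := by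
    rw [mem_centralizer_iff.1 (S.comm_mem x hx y hy) x hx, mul_inv_cancel_right]
  have h3 : ⁅x ^ 2, y⁆ = (x * ⁅x, y⁆ * x⁻¹) * ⁅x, y⁆ := by
    simp only [commutatorElement_def, pow_two]; group
  rw [h2, h1] at h3
  rw [pow_two, ← h3]

theorem Setting.commute_of_fixed_quot (S : Setting C A t) {c g : G} (hc : c ∈ A) (hg : g ∈ C)
    (h : Commute c (g⁻¹ * (c * g * c⁻¹))) : Commute c g := by
  haveI : Fact (Nat.Prime 2) := ⟨Nat.prime_two⟩
  have hm : g⁻¹ * (c * g * c⁻¹) ∈ C :=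
    mul_mem (inv_mem hg) ((mem_normalizer_iff.1 (S.norm hc) g).1 hg)
  obtain ⟨k, hk⟩ := S.two ⟨_, inv_mem hm⟩
  have h2 := CharTwo.commute_of_conj_eq_mul (x := c) (r := g⁻¹)
    (t := (g⁻¹ * (c * g * c⁻¹))⁻¹) (p := 2) ⟨k, by simpa [Subtype.ext_iff] using hk⟩ (S.odd c hc)
    h.inv_right (by group)
  simpa using h2.inv_right

theorem Setting.conj_eq_of_fixed (S : Setting C A t) {c g : G} (hc : c ∈ A)
    (hg : g ∈ C ⊓ centralizer (C : Set G)) : c * g * c⁻¹ = g := by
  rw [(S.fixed g hg c hc).eq, mul_inv_cancel_right]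

/-- The element used on an elementary abelian subgroup `K` whose fixed points `c` moves. -/
theorem Setting.exists_moved (S : Setting C A t) (hA : IsMulCommutative A) {K : Subgroup G}
    (hK : K ≤ A) {c g : G} (hc : c ∈ A) (hg : g ∈ C ⊓ centralizer (K : Set G))
    (hne : ¬ Commute c g) :
    ∃ x : G, x ∈ C ⊓ centralizer (K : Set G) ∧ c * x * c⁻¹ ∈ C ⊓ centralizer (K : Set G) ∧
      (x ^ 2 = 1 ∨ x ^ 2 = t) ∧ ¬ Commute c x ∧ ¬ Commute c (x⁻¹ * (c * x * c⁻¹)) ∧
      ∀ b ∈ C, Commute c b → Commute x b ∧ Commute (c * x * c⁻¹) b := by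
  have hconj : ∀ w ∈ C ⊓ centralizer (K : Set G), c * w * c⁻¹ ∈ C ⊓ centralizer (K : Set G) := by
    intro w hw
    exact ⟨(mem_normalizer_iff.1 (S.norm hc) w).1 hw.1,
      (mem_normalizer_iff.1 (Signalizer.le_normalizer_centralizer_of_le hA hK hc) w).1 hw.2⟩
  have hg' := hconj g hg
  have hx : g⁻¹ * (c * g * c⁻¹) ∈ C ⊓ centralizer (K : Set G) := mul_mem (inv_mem hg) hg'
  have hncx : ¬ Commute c (g⁻¹ * (c * g * c⁻¹)) := fun h =>
    hne (S.commute_of_fixed_quot hc hg.1 h)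
  refine ⟨_, hx, hconj _ hx, ?_, hncx, fun h => hncx (S.commute_of_fixed_quot hc hx.1 h),
    fun b hb hcb => ?_⟩
  · have hsq : (g⁻¹ * (c * g * c⁻¹)) ^ 2 = ⁅g⁻¹, c * g * c⁻¹⁆ := by
      have h1 : (c * g * c⁻¹) ^ 2 = g ^ 2 := by
        rw [conj_pow]
        exact S.conj_eq_of_fixed hc ⟨pow_mem hg.1 2, S.sq_mem g hg.1⟩
      have h2 : (g⁻¹) ^ 2 * (c * g * c⁻¹) = (c * g * c⁻¹) * (g⁻¹) ^ 2 :=
        (mem_centralizer_iff.1 (S.sq_mem _ (inv_mem hg.1)) _ hg'.1).symm
      calc (g⁻¹ * (c * g * c⁻¹)) ^ 2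
          = ⁅g⁻¹, c * g * c⁻¹⁆ * ((c * g * c⁻¹) * (g⁻¹) ^ 2 * (c * g * c⁻¹)) := by
            simp only [commutatorElement_def, pow_two]; group
        _ = ⁅g⁻¹, c * g * c⁻¹⁆ * ((g⁻¹) ^ 2 * (c * g * c⁻¹) ^ 2) := by
            rw [← h2, mul_assoc ((g⁻¹) ^ 2), ← pow_two]
        _ = _ := by rw [h1, inv_pow, inv_mul_cancel, mul_one]
    rw [hsq]
    exact S.commutator_cases (inv_mem hg.1) hg'.1
  · have hcom : ⁅g, b⁆ ∈ C ⊓ centralizer (C : Set G) := by
      refine mem_inf.2 ⟨?_, S.comm_mem g hg.1 b hb⟩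
      rw [commutatorElement_def]
      exact mul_mem (mul_mem (mul_mem hg.1 hb) (inv_mem hg.1)) (inv_mem hb)
    have hcb' : c * b * c⁻¹ = b := by rw [hcb.eq, mul_inv_cancel_right]
    have h1 : c * g * c⁻¹ * b * (c * g * c⁻¹)⁻¹ * b⁻¹ = ⁅g, b⁆ := by
      calc c * g * c⁻¹ * b * (c * g * c⁻¹)⁻¹ * b⁻¹
          = c * g * c⁻¹ * (c * b * c⁻¹) * (c * g * c⁻¹)⁻¹ * (c * b * c⁻¹)⁻¹ := by rw [hcb']
        _ = c * ⁅g, b⁆ * c⁻¹ := by simp only [commutatorElement_def]; group
        _ = _ := S.conj_eq_of_fixed hc hcom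
    have h2 : c * g * c⁻¹ * b * (c * g * c⁻¹)⁻¹ = g * b * g⁻¹ := by
      rw [commutatorElement_def] at h1
      exact mul_right_cancel h1
    have h3 : Commute (g⁻¹ * (c * g * c⁻¹)) b := by
      refine mul_inv_eq_iff_eq_mul.1 ?_
      calc g⁻¹ * (c * g * c⁻¹) * b * (g⁻¹ * (c * g * c⁻¹))⁻¹
          = g⁻¹ * (c * g * c⁻¹ * b * (c * g * c⁻¹)⁻¹) * g := by group
        _ = g⁻¹ * (g * b * g⁻¹) * g := by rw [h2]
        _ = b := by group
    refine ⟨h3, ?_⟩
    rw [← hcb']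
    exact (Commute.conj_iff _).2 h3

/-! ### The bounds -/

variable {p : ℕ} [hp : Fact p.Prime]

/-- An involution `y` of a 2-group `X` centralising `B` inverts some element `u` of order `p`
outside `B` fixed by a large subgroup of `X`. -/
theorem exists_inverted (hp2 : p ≠ 2) (hG : Cfsg.IsOfLocalCharacteristic p G) {B X : Subgroup G}
    (hB : Cfsg.IsElementaryAbelian p B) (hB1 : B ≠ ⊥) (hX : Cfsg.IsElementaryAbelian 2 X)
    (hXB : X ≤ centralizer (B : Set G)) {y : G} (hy : y ∈ X) (hy1 : y ≠ 1) :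
    ∃ (Y : Subgroup G) (u : G), Y ≤ X ∧ Y.relIndex X ≤ 2 ∧ orderOf u = p ∧
      u ∈ coreIn p (centralizer (B : Set G)) ∧ u ∈ centralizer (Y : Set G) ∧ u ∉ B ∧
      y * u * y⁻¹ = u⁻¹ := by
  haveI : Fact (Nat.Prime 2) := ⟨Nat.prime_two⟩
  have hXU : X ≤ normalizer (coreIn p (centralizer (B : Set G)) : Set G) :=
    hXB.trans (le_normalizer_coreIn _ _)
  have hU := coreIn_isPGroup p (centralizer (B : Set G))
  have hyo : orderOf y = 2 := Signalizer.elemAb_orderOf hX hy hy1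
  have hco : (2 : ℕ).Coprime p := (Nat.coprime_primes Nat.prime_two hp.out).2 hp2.symm
  have h2U : ¬ 2 ∣ Nat.card ↥(coreIn p (centralizer (B : Set G))) := by
    obtain ⟨m, hm⟩ := IsPGroup.iff_card.1 hU
    rw [hm]
    intro h
    exact hp2 ((Nat.prime_dvd_prime_iff_eq Nat.prime_two hp.out).1
      (Nat.prime_two.dvd_of_dvd_pow h)).symm
  by_contra hcon
  refine hy1 (eq_one_of_centralizes_core hG (Signalizer.elemAb_isPGroup hB) hB1
    (by rw [hyo]; exact hco) (hXB hy) ?_)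
  have hle : coreIn p (centralizer (B : Set G)) ≤ centralizer ({y} : Set G) := by
    refine Signalizer.le_of_forall_hyperplane (p := 2) hX hXU h2U fun Y hYX hYi g hg => ?_
    rw [mem_centralizer_singleton_iff]
    by_contra hgy
    have hg' : y * g * y⁻¹ ∈ coreIn p (centralizer (B : Set G)) ⊓ centralizer (Y : Set G) :=
      ⟨(mem_normalizer_iff.1 (hXU hy) g).1 hg.1,
        (mem_normalizer_iff.1 (Signalizer.le_normalizer_centralizer_of_le hX.1 hYX hy) g).1 hg.2⟩
    have hh := mul_mem (inv_mem hg) hg'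
    have hyy : y * y = 1 := by rw [← pow_two]; exact hX.2 y hy
    have hinv : y * (g⁻¹ * (y * g * y⁻¹)) * y⁻¹ = (g⁻¹ * (y * g * y⁻¹))⁻¹ := by
      calc y * (g⁻¹ * (y * g * y⁻¹)) * y⁻¹ = y * g⁻¹ * y⁻¹ * ((y * y) * g * (y * y)⁻¹) := by group
        _ = y * g⁻¹ * y⁻¹ * g := by rw [hyy, one_mul, inv_one, mul_one]
        _ = _ := by group
    have hh1 : g⁻¹ * (y * g * y⁻¹) ≠ 1 := by
      intro h
      apply hgy
      have := mul_inv_eq_iff_eq_mul.1 (inv_mul_eq_one.1 h).symm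
      exact this.symm
    obtain ⟨i, hi⟩ := exists_pow_orderOf hU hh.1 hh1
    have hui : y * (g⁻¹ * (y * g * y⁻¹)) ^ i * y⁻¹ = ((g⁻¹ * (y * g * y⁻¹)) ^ i)⁻¹ := by
      rw [← conj_pow, hinv, inv_pow]
    refine hcon ⟨Y, _, hYX, hYi, hi, pow_mem hh.1 i, pow_mem hh.2 i, fun huB => ?_, hui⟩
    have h1 := hui
    rw [← mem_centralizer_iff.1 (hXB hy) _ huB, mul_inv_cancel_right] at h1
    have h2 : orderOf ((g⁻¹ * (y * g * y⁻¹)) ^ i) ∣ 2 :=
      orderOf_dvd_of_pow_eq_one (by rw [pow_two]; exact mul_eq_one_iff_eq_inv.2 h1)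
    rw [hi] at h2
    exact hp2 ((Nat.prime_dvd_prime_iff_eq hp.out Nat.prime_two).1 h2)
  intro g hg
  exact (mem_centralizer_singleton_iff.1 (hle hg))

theorem ne_bot_of_pow_le {B : Subgroup G} {j : ℕ} (hj : 1 ≤ j) (h : p ^ j ≤ Nat.card B) :
    B ≠ ⊥ := by
  rintro rfl
  rw [Subgroup.card_bot] at h
  exact absurd h (not_le.2 (Nat.one_lt_pow (by omega) hp.out.one_lt))

/-- Lowering the order of the centralised group by `p` doubles the bound. -/
theorem Bound.step (hp2 : p ≠ 2) (hG : Cfsg.IsOfLocalCharacteristic p G) {j k : ℕ} (hj : 1 ≤ j)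
    (h : Bound p G (j + 1) k) : Bound p G j (k + 1) := by
  intro B X hB hBcard hX hXB
  rcases eq_or_ne X ⊥ with rfl | hX1
  · rw [Subgroup.card_bot]; exact Nat.one_le_two_pow
  obtain ⟨y, hy, hy1⟩ := (X.bot_or_exists_ne_one).resolve_left hX1
  obtain ⟨Y, u, hYX, hYi, huo, huU, huY, huB, -⟩ :=
    exists_inverted hp2 hG hB (ne_bot_of_pow_le hj hBcard) hX hXB hy hy1
  have hB' : Cfsg.IsElementaryAbelian p (B ⊔ zpowers u) :=
    elem_sup_zpowers hB (by rw [← huo]; exact pow_orderOf_eq_one u)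
      (fun b hb => mem_centralizer_iff.1 (coreIn_le _ _ huU) b hb)
  have hcard : p ^ (j + 1) ≤ Nat.card ↥(B ⊔ zpowers u) :=
    le_trans (by rw [pow_succ]; exact Nat.mul_le_mul_right p hBcard)
      (card_mul_le_sup_zpowers hB' huB)
  have hY : Y ≤ centralizer ((B ⊔ zpowers u : Subgroup G) : Set G) :=
    le_centralizer_iff.1 (sup_le (le_centralizer_iff.1 (hYX.trans hXB)) (zpowers_le.2 huY))
  have h1 : Nat.card Y * Y.relIndex X = Nat.card X := by
    rw [← relIndex_bot_left, relIndex_mul_relIndex _ _ _ bot_le hYX, relIndex_bot_left]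
  rw [← h1, pow_succ]
  exact Nat.mul_le_mul (h _ Y hB' hcard (elemAb_of_le hX hYX) hY) hYi

theorem bound_zero {n : ℕ}
    (hmax : ∀ E : Subgroup G, Cfsg.IsElementaryAbelian p E → InTwoLocal E →
      Nat.card E ≤ p ^ n) :
    Bound p G (n + 1) 0 := by
  haveI : Fact (Nat.Prime 2) := ⟨Nat.prime_two⟩
  intro B X hB hBcard hX hXB
  rw [pow_zero]
  by_contra hlt
  have hX1 : X ≠ ⊥ := by
    rintro rfl
    exact hlt (by rw [Subgroup.card_bot])
  have h1 := hmax B hB ⟨X, Signalizer.elemAb_isPGroup hX, hX1,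
    (le_centralizer_iff.1 hXB).trans (CharTwo.normalizer_le_centralizer_of_coe X)⟩
  exact absurd (le_trans hBcard h1) (not_le.2 (Nat.pow_lt_pow_right hp.out.one_lt (Nat.lt_succ_self n)))

/-- A hyperplane is large. -/
theorem pow_le_card_of_relIndex_le {A K : Subgroup G} {n : ℕ} (hn : 1 ≤ n) (hKA : K ≤ A)
    (hA : p ^ n ≤ Nat.card A) (hK : K.relIndex A ≤ p) : p ^ (n - 1) ≤ Nat.card K := by
  refine Nat.le_of_mul_le_mul_right ?_ hp.out.pos
  rw [← pow_succ, Nat.sub_add_cancel hn]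
  refine le_trans hA ?_
  rw [show Nat.card A = Nat.card K * K.relIndex A by
    rw [← relIndex_bot_left K, relIndex_mul_relIndex _ _ _ bot_le hKA, relIndex_bot_left]]
  exact Nat.mul_le_mul_left _ hK

theorem pow_le_card_inf {A K K' : Subgroup G} {n : ℕ} (hn : 2 ≤ n) (hA : Nat.card A = p ^ n)
    (hK : K ≤ A) (hK' : K' ≤ A) (h : p ^ (n - 1) ≤ Nat.card K)
    (h' : p ^ (n - 1) ≤ Nat.card K') : p ^ (n - 2) ≤ Nat.card ↥(K ⊓ K') := by
  refine Nat.le_of_mul_le_mul_right ?_ (pow_pos hp.out.pos n)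
  refine le_trans ?_ (le_trans (card_mul_le_card_inf hK hK') (by rw [hA]))
  rw [← pow_add, show n - 2 + n = (n - 1) + (n - 1) by omega, pow_add]
  exact Nat.mul_le_mul h h'

theorem eq_sup_zpowers {A K : Subgroup G} {n : ℕ} (hn : 1 ≤ n)
    (hA : Cfsg.IsElementaryAbelian p A) (hcard : Nat.card A = p ^ n) (hKA : K ≤ A)
    (hK : p ^ (n - 1) ≤ Nat.card K) {c : G} (hc : c ∈ A) (hcK : c ∉ K) :
    K ⊔ zpowers c = A := by
  have hle : K ⊔ zpowers c ≤ A := sup_le hKA (zpowers_le.2 hc)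
  refine eq_of_le_of_card_ge hle ?_
  have h1 := card_mul_le_sup_zpowers (Signalizer.elemAb_mono hA hle) hcK
  refine le_trans ?_ h1
  rw [hcard]
  calc p ^ n = p ^ (n - 1) * p := by rw [← pow_succ, Nat.sub_add_cancel hn]
    _ ≤ _ := Nat.mul_le_mul_right p hK

theorem exists_not_commute_of_hyperplane {A K : Subgroup G} {n : ℕ} (hn : 1 ≤ n)
    (hA : Cfsg.IsElementaryAbelian p A) (hcard : Nat.card A = p ^ n) (hKA : K ≤ A)
    (hK : p ^ (n - 1) ≤ Nat.card K) {g : G} (hgK : g ∈ centralizer (K : Set G))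
    (hg : g ∉ centralizer (A : Set G)) {c : G} (hc : c ∈ A) (hcK : c ∉ K) : ¬ Commute c g := by
  intro hcg
  apply hg
  rw [← eq_sup_zpowers hn hA hcard hKA hK hc hcK, Signalizer.centralizer_sup, mem_inf]
  refine ⟨hgK, ?_⟩
  rintro _ ⟨i, rfl⟩
  exact hcg.zpow_left i

theorem three_le_card {t d d' : G} (ht : t ^ 2 = 1) (hd : d ^ 2 = 1) (hd' : d' ^ 2 = 1)
    (htd : Commute t d) (htd' : Commute t d') (hdd' : Commute d d') (ht1 : t ≠ 1)
    (h1 : d ≠ 1) (h2 : d ≠ t) (h3 : ∀ τ : G, τ = 1 ∨ τ = t → d' ≠ τ ∧ d' ≠ τ * d) :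
    Cfsg.IsElementaryAbelian 2 (zpowers t ⊔ zpowers d ⊔ zpowers d') ∧
      2 ^ 3 ≤ Nat.card ↥(zpowers t ⊔ zpowers d ⊔ zpowers d') := by
  haveI : Fact (Nat.Prime 2) := ⟨Nat.prime_two⟩
  have hmem : ∀ (a : G), a ^ 2 = 1 → ∀ z ∈ zpowers a, z = 1 ∨ z = a := by
    rintro a ha _ ⟨i, rfl⟩
    show a ^ i = 1 ∨ a ^ i = a
    rcases Int.even_or_odd' i with ⟨j, rfl | rfl⟩
    · left; rw [zpow_mul, zpow_ofNat, ha, one_zpow]
    · right; rw [zpow_add_one, zpow_mul, zpow_ofNat, ha, one_zpow, one_mul]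
  have E1 := elem_sup_zpowers (elem_zpowers ht) hd (fun x hx => by
    rcases hmem t ht x hx with rfl | rfl
    · exact Commute.one_left d
    · exact htd)
  have hcomm : zpowers t ≤ normalizer ((zpowers d : Subgroup G) : Set G) :=
    (zpowers_le.2 (mem_centralizer_singleton_iff.2 htd.eq : t ∈ centralizer ({d} : Set G))).trans
      (by rw [← CharTwo.centralizer_zpowers]; exact CharTwo.normalizer_le_centralizer_of_coe _)
  have hmem2 : ∀ z ∈ zpowers t ⊔ zpowers d, ∃ τ : G, (τ = 1 ∨ τ = t) ∧ (z = τ ∨ z = τ * d) := by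
    intro z hz
    rw [← SetLike.mem_coe, coe_mul_of_left_le_normalizer_right _ _ hcomm] at hz
    obtain ⟨a, ha, b, hb, rfl⟩ := hz
    refine ⟨a, hmem t ht a ha, ?_⟩
    rcases hmem d hd b hb with rfl | rfl
    · left; show a * 1 = a; rw [mul_one]
    · right; rfl
  have E2 := elem_sup_zpowers E1 hd' (fun x hx => by
    obtain ⟨τ, hτ, hx'⟩ := hmem2 x hx
    have hτd : Commute τ d' := by
      rcases hτ with rfl | rfl
      · exact Commute.one_left d'
      · exact htd'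
    rcases hx' with rfl | rfl
    · exact hτd
    · exact hτd.mul_left hdd')
  refine ⟨E2, ?_⟩
  have hd_notMem : d ∉ zpowers t := fun h => by
    rcases hmem t ht d h with h | h
    · exact h1 h
    · exact h2 h
  have hd'_notMem : d' ∉ zpowers t ⊔ zpowers d := fun h => by
    obtain ⟨τ, hτ, h'⟩ := hmem2 d' h
    rcases h' with h' | h'
    · exact (h3 τ hτ).1 h'
    · exact (h3 τ hτ).2 h'
  have c1 : Nat.card (zpowers t) = 2 := by
    rw [Nat.card_zpowers]; exact orderOf_eq_prime ht ht1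
  have c2 := card_mul_le_sup_zpowers E1 hd_notMem
  have c3 := card_mul_le_sup_zpowers E2 hd'_notMem
  rw [c1] at c2
  calc 2 ^ 3 = 2 * 2 * 2 := by norm_num
    _ ≤ Nat.card ↥(zpowers t ⊔ zpowers d) * 2 := Nat.mul_le_mul_right 2 c2
    _ ≤ _ := c3

/-- The bound `|X| ≤ 2` for elementary 2-groups centralising groups of order `p ^ (n - 1)`. -/
theorem bound_one (hp2 : p ≠ 2) (hG : Cfsg.IsOfLocalCharacteristic p G)
    (hG2 : Cfsg.IsCharacteristicTwoType G) {n : ℕ} (hn : 3 ≤ n)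
    (hmax : ∀ E : Subgroup G, Cfsg.IsElementaryAbelian p E → InTwoLocal E →
      Nat.card E ≤ p ^ n) :
    Bound p G (n - 1) 1 := by
  haveI : Fact (Nat.Prime 2) := ⟨Nat.prime_two⟩
  have R0 : Bound p G n 1 := Bound.step hp2 hG (by omega) (bound_zero hmax)
  have R1w : Bound p G (n - 1) 2 :=
    Bound.step hp2 hG (by omega) (by rw [Nat.sub_add_cancel (by omega : 1 ≤ n)]; exact R0)
  have R2w : Bound p G (n - 2) 3 :=
    Bound.step hp2 hG (by omega) (by rw [show n - 2 + 1 = n - 1 by omega]; exact R1w)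
  intro B0 X hB0 hB0card hX hXB
  by_contra hXbig
  rw [pow_one, not_le] at hXbig
  obtain ⟨y, hy, hy1⟩ := Signalizer.exists_ne_one_of_le_card (A := X) (by omega)
  obtain ⟨Y, u, hYX, hYi, huo, huU, huY, huB, hyu⟩ :=
    exists_inverted hp2 hG hB0 (ne_bot_of_pow_le (by omega) hB0card) hX hXB hy hy1
  have hYcard : 1 < Nat.card Y := by
    have h1 : Nat.card Y * Y.relIndex X = Nat.card X := by
      rw [← relIndex_bot_left, relIndex_mul_relIndex _ _ _ bot_le hYX, relIndex_bot_left]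
    by_contra hle
    have := Nat.mul_le_mul (not_lt.1 hle) hYi
    omega
  obtain ⟨s, hsY, hs1⟩ := Signalizer.exists_ne_one_of_le_card hYcard
  have hs2 : s ^ 2 = 1 := hX.2 s (hYX hsY)
  have hsy : Commute s y := elemAb_commute hX (hYX hsY) hy
  have hus : Commute u s := (mem_centralizer_iff.1 huY s hsY).symm
  have hup : u ^ p = 1 := by rw [← huo]; exact pow_orderOf_eq_one u
  have hu1 : u ≠ 1 := by
    intro h; rw [h, orderOf_one] at huo; exact hp.out.ne_one huo.symm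
  have huB0 : u ∈ centralizer (B0 : Set G) := coreIn_le _ _ huU
  let X' : Subgroup G := B0 ⊔ zpowers u
  have hX' : Cfsg.IsElementaryAbelian p X' :=
    elem_sup_zpowers hB0 hup (fun b hb => mem_centralizer_iff.1 huB0 b hb)
  let T : Subgroup G := zpowers s
  have hT : IsPGroup 2 T := Signalizer.elemAb_isPGroup (elem_zpowers hs2)
  have hT1 : T ≠ ⊥ := fun h => hs1 (zpowers_eq_bot.1 h)
  let H : Subgroup G := normalizer (T : Set G)
  have hsH : ∀ g ∈ H, Commute g s := by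
    intro g hg
    have h1 : g * s * g⁻¹ ∈ T := (mem_normalizer_iff.1 hg s).1 (mem_zpowers s)
    have h2 : Nat.card T ≤ 2 := by
      show Nat.card (zpowers s) ≤ 2
      rw [Nat.card_zpowers]; exact Nat.le_of_dvd two_pos (orderOf_dvd_of_pow_eq_one hs2)
    rcases eq_or_eq_of_card_le_two h2 (mem_zpowers s) hs1 h1 with h | h
    · exact absurd (conj_eq_one_iff.1 h) hs1
    · exact mul_inv_eq_iff_eq_mul.1 h
  have hCH : ∀ g, Commute g s → g ∈ H := fun g hg => by
    refine CharTwo.normalizer_le_centralizer_of_coe T ?_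
    rw [CharTwo.centralizer_zpowers, mem_centralizer_singleton_iff]
    exact hg.eq
  have hX'H : X' ≤ H := sup_le (fun b hb => hCH b (mem_centralizer_iff.1 (hXB (hYX hsY)) b hb))
    (zpowers_le.2 (hCH u hus))
  have hX'card : Nat.card X' = p ^ n := by
    refine le_antisymm (hmax X' hX' ⟨T, hT, hT1, hX'H⟩) ?_
    refine le_trans ?_ (card_mul_le_sup_zpowers hX' huB)
    calc p ^ n = p ^ (n - 1) * p := by rw [← pow_succ, Nat.sub_add_cancel (by omega : 1 ≤ n)]
      _ ≤ _ := Nat.mul_le_mul_right p hB0card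
  have hB0le : Nat.card B0 ≤ p ^ (n - 1) := by
    refine Nat.le_of_mul_le_mul_right ?_ hp.out.pos
    refine le_trans (card_mul_le_sup_zpowers hX' huB) ?_
    show Nat.card X' ≤ _
    rw [hX'card, ← pow_succ, Nat.sub_add_cancel (by omega : 1 ≤ n)]
  obtain ⟨hTO, hHO⟩ := twoLocal_core hG2 hT hT1
  let O : Subgroup G := coreIn 2 H
  have hO : IsPGroup 2 O := coreIn_isPGroup 2 H
  have hOH : O ≤ H := coreIn_le 2 H
  have hHn : H ≤ normalizer (O : Set G) := le_normalizer_coreIn 2 H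
  obtain ⟨C, hCO, hCn, hCcomm, hCsq, hCcen⟩ := exists_critical O hO
  have hC : IsPGroup 2 C := hO.to_le hCO
  have hHC : H ≤ normalizer (C : Set G) := hHn.trans hCn
  have hsC : s ∈ C ⊓ centralizer (C : Set G) := by
    have hsc : s ∈ centralizer (C : Set G) := fun c hc => (hsH c (hOH (hCO hc))).eq
    exact ⟨hCcen ⟨hTO (mem_zpowers s), hsc⟩, hsc⟩
  have hyH : y ∈ H := hCH y hsy.symm
  have huX : u ∈ X' := mem_sup_right (mem_zpowers u)
  have hodd : ∀ a ∈ X', (orderOf a).Coprime 2 := fun a ha => coprime_two_orderOf hp2 hX' ha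
  -- the involutions of the centre of `C` are `1` and `s`
  obtain ⟨Z, hZC, hZ, hZn, hZmem⟩ := exists_omega C
  have hX'Z : X' ≤ normalizer (Z : Set G) := hX'H.trans (hHC.trans hZn)
  have hcop : ¬ p ∣ Nat.card Z := by
    obtain ⟨m, hm⟩ := IsPGroup.iff_card.1 (Signalizer.elemAb_isPGroup hZ)
    rw [hm]
    intro h
    exact hp2 ((Nat.prime_dvd_prime_iff_eq hp.out Nat.prime_two).1 (hp.out.dvd_of_dvd_pow h))
  have hZX : Z ≤ centralizer (X' : Set G) := by
    refine Signalizer.le_of_forall_hyperplane hX' hX'Z hcop fun K hK hKi z hz => ?_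
    have hKcard := pow_le_card_of_relIndex_le (by omega) hK hX'card.ge hKi
    have hcard := R1w K (Z ⊓ centralizer (K : Set G)) (Signalizer.elemAb_mono hX' hK) hKcard
      (elemAb_of_le hZ inf_le_left) inf_le_right
    intro a ha
    refine (commute_of_card_le_four hcard (hodd a ha)
      (Signalizer.elemAb_inf_centralizer_normalizer hX' hK hX'Z ha) ⟨(hZmem s).2 ⟨hsC, hs2⟩, ?_⟩
      hs1 hs2 (hsH a (hX'H ha)) z hz).eq
    intro k hk
    exact (hsH k (hX'H (hK hk))).eq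
  have hZcard : Nat.card Z ≤ 2 := by
    simpa using R0 X' Z hX' hX'card.ge hZ hZX
  have S : Setting C X' s :=
    { two := hC
      norm := hX'H.trans hHC
      odd := hodd
      t_mem := hsC
      t_sq := hs2
      fixed := fun z hz a ha => commute_center_of_omega hC (hHC (hX'H ha)) (hodd a ha)
        (fun w hw hw2 => (mem_centralizer_iff.1 (hZX ((hZmem w).2 ⟨hw, hw2⟩)) a ha)) z hz
      omega := fun z hz hz2 => eq_or_eq_of_card_le_two hZcard ((hZmem s).2 ⟨hsC, hs2⟩) hs1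
        ((hZmem z).2 ⟨hz, hz2⟩)
      comm_mem := fun x hx y hy => hCcomm x hx y (hCO hy)
      sq_mem := hCsq }
  -- a hyperplane whose fixed points `u` moves
  obtain ⟨K, hKX, hKi, g, hgC, hgK, hgu⟩ : ∃ K : Subgroup G, K ≤ X' ∧ K.relIndex X' ≤ p ∧
      ∃ g : G, g ∈ C ∧ g ∈ centralizer (K : Set G) ∧ ¬ Commute u g := by
    by_contra hcon
    push Not at hcon
    have hcopC : ¬ p ∣ Nat.card C := by
      obtain ⟨m, hm⟩ := IsPGroup.iff_card.1 hC
      rw [hm]
      intro h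
      exact hp2 ((Nat.prime_dvd_prime_iff_eq hp.out Nat.prime_two).1 (hp.out.dvd_of_dvd_pow h))
    have hle : C ≤ centralizer ({u} : Set G) :=
      Signalizer.le_of_forall_hyperplane hX' S.norm hcopC fun K hK hKi z hz =>
        mem_centralizer_singleton_iff.2 (hcon K hK hKi z hz.1 hz.2).eq.symm
    have huC : u ∈ centralizer (C : Set G) := fun c hc => mem_centralizer_singleton_iff.1 (hle hc)
    have huO := mem_centralizer_of_critical hO hCO hCn hCcen (hHn (hX'H huX)) (hodd u huX) huC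
    exact hu1 (CharTwo.eq_one_of_coprime_of_mem hO (hHO ⟨hX'H huX, huO⟩) (hodd u huX))
  have hKcard := pow_le_card_of_relIndex_le (by omega) hKX hX'card.ge hKi
  have huK : u ∉ K := fun h => hgu (mem_centralizer_iff.1 hgK u h)
  -- `u` centralises the fixed points of `B0`
  have hKB0 : ¬ K ≤ B0 := by
    intro hle
    have hKe : K = B0 := eq_of_le_of_card_ge hle (hB0le.trans hKcard)
    apply hgu
    rw [hKe] at hgK
    have hgU : g ∈ normalizer (coreIn p (centralizer (B0 : Set G)) : Set G) :=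
      le_normalizer_coreIn p _ hgK
    have h1 : g * u * g⁻¹ * u⁻¹ ∈ coreIn p (centralizer (B0 : Set G)) :=
      mul_mem ((mem_normalizer_iff.1 hgU u).1 huU) (inv_mem huU)
    have h2 : g * u * g⁻¹ * u⁻¹ ∈ O := by
      have h2 : u * g⁻¹ * u⁻¹ ∈ O :=
        (mem_normalizer_iff.1 (hHn (hX'H huX)) _).1 (inv_mem (hCO hgC))
      simpa [mul_assoc] using mul_mem (hCO hgC) h2
    obtain ⟨m, hm⟩ := hO ⟨_, h2⟩
    have h4 : (orderOf (g * u * g⁻¹ * u⁻¹)).Coprime p :=
      Nat.Coprime.coprime_dvd_left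
        (orderOf_dvd_of_pow_eq_one (n := 2 ^ m) (by simpa [Subtype.ext_iff] using hm))
        (((Nat.coprime_primes Nat.prime_two hp.out).2 hp2.symm).pow_left m)
    have h5 := CharTwo.eq_one_of_coprime_of_mem (coreIn_isPGroup p _) h1 h4
    exact (mul_inv_eq_iff_eq_mul.1 (mul_inv_eq_one.1 h5)).symm
  obtain ⟨k, hkK, hkB0⟩ := SetLike.not_le_iff_exists.1 hKB0
  have hconjX : ∀ a ∈ X', ∃ b ∈ B0, ∃ w ∈ zpowers u, a = b * w ∧ y * a * y⁻¹ = b * w⁻¹ := by
    intro a ha
    have hn : B0 ≤ normalizer ((zpowers u : Subgroup G) : Set G) := by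
      refine le_trans ?_ (CharTwo.normalizer_le_centralizer_of_coe (zpowers u))
      rw [CharTwo.centralizer_zpowers]
      intro b hb
      rw [mem_centralizer_singleton_iff]
      exact mem_centralizer_iff.1 huB0 b hb
    rw [← SetLike.mem_coe, show X' = B0 ⊔ zpowers u from rfl,
      coe_mul_of_left_le_normalizer_right _ _ hn] at ha
    obtain ⟨b, hb, w, hw, rfl⟩ := ha
    refine ⟨b, hb, w, hw, rfl, ?_⟩
    obtain ⟨i, rfl⟩ := hw
    show y * (b * u ^ i) * y⁻¹ = b * (u ^ i)⁻¹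
    have hyb : y * b * y⁻¹ = b := by
      rw [← mem_centralizer_iff.1 (hXB hy) b hb, mul_inv_cancel_right]
    calc y * (b * u ^ i) * y⁻¹ = (y * b * y⁻¹) * (y * u ^ i * y⁻¹) := by group
      _ = b * (u ^ i)⁻¹ := by rw [hyb, ← conj_zpow, hyu, inv_zpow]
  let K' : Subgroup G := K.map (MulAut.conj y).toMonoidHom
  have hK'mem : ∀ a ∈ K, y * a * y⁻¹ ∈ K' := fun a ha => ⟨a, ha, rfl⟩
  have hK'X : K' ≤ X' := by
    rintro _ ⟨a, ha, rfl⟩
    obtain ⟨b, hb, w, hw, -, h⟩ := hconjX a (hKX ha)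
    show y * a * y⁻¹ ∈ X'
    rw [h]
    exact mul_mem (mem_sup_left hb) (mem_sup_right (inv_mem hw))
  have hK'card : p ^ (n - 1) ≤ Nat.card K' := by
    rw [Subgroup.card_map_of_injective (MulAut.conj y).injective]; exact hKcard
  let c : G := y * k * y⁻¹
  have hcK' : c ∈ K' := hK'mem k hkK
  have hcK : c ∉ K := by
    intro hc
    obtain ⟨b, hb, w, hw, hk, hk'⟩ := hconjX k (hKX hkK)
    have hc' : b * w⁻¹ ∈ K := hk' ▸ hc
    have hw2 : w ^ 2 = (b * w⁻¹)⁻¹ * k := by rw [hk, pow_two]; group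
    have hwp : w ^ p = 1 := hX'.2 w (mem_sup_right hw)
    have hwK : w ∈ K := mem_of_sq_mem hp2 hwp (by rw [hw2]; exact mul_mem (inv_mem hc') hkK)
    have hw1 : w ≠ 1 := by
      intro h
      apply hkB0
      rw [hk, h, mul_one]
      exact hb
    have h1 : zpowers w = zpowers u := by
      refine eq_of_le_of_card_ge (zpowers_le.2 hw) ?_
      rw [Nat.card_zpowers, Nat.card_zpowers, huo, orderOf_eq_prime hwp hw1]
    exact huK (zpowers_le.2 hwK (h1 ▸ mem_zpowers u))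
  have hgX : g ∉ centralizer (X' : Set G) := fun h => hgu (mem_centralizer_iff.1 h u huX)
  have hcg := exists_not_commute_of_hyperplane (by omega) hX' hX'card hKX hKcard hgK hgX
    (hK'X hcK') hcK
  obtain ⟨x, hxm, hxm', hxsq, hncx, hncq, hxcomm⟩ :=
    S.exists_moved hX'.1 hKX (hK'X hcK') ⟨hgC, hgK⟩ hcg
  -- conjugation by `y` takes the fixed points of `K` to those of `K'`
  have hyC : ∀ z ∈ C ⊓ centralizer (K : Set G),
      y * z * y⁻¹ ∈ C ⊓ centralizer (K' : Set G) ∧ Commute c (y * z * y⁻¹) := by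
    intro z hz
    have hz' : y * z * y⁻¹ ∈ centralizer (K' : Set G) := by
      rintro _ ⟨a, ha, rfl⟩
      exact ((Commute.conj_iff _).2 (show Commute a z from mem_centralizer_iff.1 hz.2 a ha)).eq
    exact ⟨⟨(mem_normalizer_iff.1 (hHC hyH) z).1 hz.1, hz'⟩, mem_centralizer_iff.1 hz' c hcK'⟩
  have hyy : y * y = 1 := by rw [← pow_two]; exact hX.2 y hy
  have hys : y * s * y⁻¹ = s := by rw [← hsy.eq, mul_inv_cancel_right]
  have hτs : ∀ τ : G, τ = 1 ∨ τ = s → Commute c τ ∧ y * τ * y⁻¹ = τ ∧ τ * τ = 1 ∧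
      ∀ z ∈ C, Commute τ z := by
    rintro τ (rfl | rfl)
    · exact ⟨Commute.one_right c, by simp, by simp, fun z _ => Commute.one_left z⟩
    · exact ⟨(hsH c (hX'H (hK'X hcK'))), hys, by rw [← pow_two]; exact hs2,
        fun z hz => (mem_centralizer_iff.1 hsC.2 z hz).symm⟩
  -- the elements `z * z^y` for `z` the two moved elements
  let z' : G := c * x * c⁻¹
  have hzz : ∀ z ∈ C ⊓ centralizer (K : Set G), (∀ b ∈ C, Commute c b → Commute z b) →
      (z ^ 2 = 1 ∨ z ^ 2 = s) →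
      (z * (y * z * y⁻¹)) ^ 2 = 1 ∧ Commute (z * (y * z * y⁻¹)) y ∧
        z * (y * z * y⁻¹) ∈ C ∧ Commute (z * (y * z * y⁻¹)) s ∧
        z * (y * z * y⁻¹) ∈ centralizer ((K ⊓ K' : Subgroup G) : Set G) := by
    intro z hz hzc hzsq
    obtain ⟨h1, h2⟩ := hyC z hz
    have hcomm : Commute z (y * z * y⁻¹) := hzc _ h1.1 h2
    refine ⟨?_, ?_, mul_mem hz.1 h1.1, (hsH _ (hOH (hCO (mul_mem hz.1 h1.1)))), ?_⟩
    · rw [hcomm.mul_pow, conj_pow]
      obtain ⟨-, ha, hb, -⟩ := hτs _ hzsq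
      rw [ha]; exact hb
    · refine (mul_inv_eq_iff_eq_mul.1 ?_).symm
      calc y * (z * (y * z * y⁻¹)) * y⁻¹ = (y * z * y⁻¹) * ((y * y) * z * (y * y)⁻¹) := by group
        _ = (y * z * y⁻¹) * z := by rw [hyy, one_mul, inv_one, mul_one]
        _ = z * (y * z * y⁻¹) := hcomm.eq.symm
    · exact mul_mem (Subgroup.centralizer_le (SetLike.coe_subset_coe.2 inf_le_left) hz.2)
        (Subgroup.centralizer_le (SetLike.coe_subset_coe.2 inf_le_right) h1.2)
  have hxsq' : z' ^ 2 = 1 ∨ z' ^ 2 = s := by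
    have h : z' ^ 2 = x ^ 2 := by
      show (c * x * c⁻¹) ^ 2 = x ^ 2
      rw [conj_pow]
      exact S.conj_eq_of_fixed (hK'X hcK') ⟨pow_mem hxm.1 2, S.sq_mem x hxm.1⟩
    rw [h]; exact hxsq
  obtain ⟨hd2, hdy, hdC, hds, hdK⟩ :=
    hzz x hxm (fun b hb hcb => (hxcomm b hb hcb).1) hxsq
  obtain ⟨hd'2, hd'y, hd'C, hd's, hd'K⟩ :=
    hzz z' hxm' (fun b hb hcb => (hxcomm b hb hcb).2) hxsq'
  let d : G := x * (y * x * y⁻¹)
  let d' : G := z' * (y * z' * y⁻¹)
  have hdd' : Commute d d' := by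
    obtain ⟨h1, h2⟩ := hyC x hxm
    obtain ⟨h1', h2'⟩ := hyC z' hxm'
    have e1 : Commute z' (y * x * y⁻¹) := (hxcomm _ h1.1 h2).2
    have e2 : Commute x (y * z' * y⁻¹) := (hxcomm _ h1'.1 h2').1
    have hτ := S.commutator_cases hxm.1 hxm'.1
    obtain ⟨-, hτy, hτ2, hτC⟩ := hτs _ hτ
    have e3 : x * z' = ⁅x, z'⁆ * (z' * x) := by simp only [commutatorElement_def]; group
    have e4 : (y * x * y⁻¹) * (y * z' * y⁻¹)
        = ⁅x, z'⁆ * ((y * z' * y⁻¹) * (y * x * y⁻¹)) := by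
      calc (y * x * y⁻¹) * (y * z' * y⁻¹) = y * (x * z') * y⁻¹ := by group
        _ = y * (⁅x, z'⁆ * (z' * x)) * y⁻¹ := by rw [← e3]
        _ = (y * ⁅x, z'⁆ * y⁻¹) * ((y * z' * y⁻¹) * (y * x * y⁻¹)) := by group
        _ = _ := by rw [hτy]
    show (x * (y * x * y⁻¹)) * (z' * (y * z' * y⁻¹)) = (z' * (y * z' * y⁻¹)) * (x * (y * x * y⁻¹))
    calc (x * (y * x * y⁻¹)) * (z' * (y * z' * y⁻¹))
        = x * ((y * x * y⁻¹) * z') * (y * z' * y⁻¹) := by group
      _ = x * (z' * (y * x * y⁻¹)) * (y * z' * y⁻¹) := by rw [e1.eq]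
      _ = (x * z') * ((y * x * y⁻¹) * (y * z' * y⁻¹)) := by group
      _ = (⁅x, z'⁆ * (z' * x)) * (⁅x, z'⁆ * ((y * z' * y⁻¹) * (y * x * y⁻¹))) := by
          rw [e4]; nth_rewrite 1 [e3]; rfl
      _ = ⁅x, z'⁆ * ((z' * x) * ⁅x, z'⁆) * ((y * z' * y⁻¹) * (y * x * y⁻¹)) := by group
      _ = (⁅x, z'⁆ * ⁅x, z'⁆) * ((z' * x) * ((y * z' * y⁻¹) * (y * x * y⁻¹))) := by
          rw [← (hτC (z' * x) (mul_mem hxm'.1 hxm.1)).eq]; simp only [mul_assoc, z']
      _ = (z' * x) * ((y * z' * y⁻¹) * (y * x * y⁻¹)) := by rw [hτ2, one_mul]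
      _ = z' * (x * (y * z' * y⁻¹)) * (y * x * y⁻¹) := by group
      _ = z' * ((y * z' * y⁻¹) * x) * (y * x * y⁻¹) := by rw [e2.eq]
      _ = _ := by group
  -- independence
  obtain ⟨-, hcy⟩ := hyC x hxm
  obtain ⟨-, hcy'⟩ := hyC z' hxm'
  have hndx : ∀ τ : G, τ = 1 ∨ τ = s → d ≠ τ := by
    intro τ hτ h
    apply hncx
    have h' : x = τ * (y * x * y⁻¹)⁻¹ := eq_mul_inv_of_mul_eq h
    rw [h']
    exact (hτs τ hτ).1.mul_right hcy.inv_right
  have hndx' : ∀ τ : G, τ = 1 ∨ τ = s → d' ≠ τ ∧ d' ≠ τ * d := by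
    intro τ hτ
    constructor
    · intro h
      apply hncx
      have h' : z' = τ * (y * z' * y⁻¹)⁻¹ := eq_mul_inv_of_mul_eq h
      have h2 : Commute c z' := by rw [h']; exact (hτs τ hτ).1.mul_right hcy'.inv_right
      have h3 := (Commute.conj_iff (c⁻¹)).2 h2
      simpa [z', mul_assoc] using h3
    · intro h
      apply hncq
      have h0 : z' * (y * z' * y⁻¹) = τ * (x * (y * x * y⁻¹)) := h
      have h1 : x⁻¹ * z' = τ * (y * x * y⁻¹) * (y * z' * y⁻¹)⁻¹ := by
        rw [eq_mul_inv_iff_mul_eq, mul_assoc, h0, ← mul_assoc τ x (y * x * y⁻¹),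
          ((hτs τ hτ).2.2.2 x hxm.1).eq, mul_assoc x τ, inv_mul_cancel_left]
      show Commute c (x⁻¹ * z')
      rw [h1]
      exact ((hτs τ hτ).1.mul_right hcy).mul_right hcy'.inv_right
  obtain ⟨E1, c1⟩ := three_le_card hs2 hd2 hd'2 hds.symm hd's.symm hdd' hs1
    (hndx 1 (Or.inl rfl)) (hndx s (Or.inr rfl)) hndx'
  let W : Subgroup G := zpowers s ⊔ zpowers d ⊔ zpowers d'
  have hWC : W ≤ C := sup_le (sup_le (zpowers_le.2 hsC.1) (zpowers_le.2 hdC)) (zpowers_le.2 hd'C)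
  have hyW : y ∉ W := by
    intro h
    have hyO : y ∈ O := hCO (hWC h)
    have h1 : y * u * y⁻¹ * u⁻¹ ∈ O := by
      have h2 : u * y⁻¹ * u⁻¹ ∈ O :=
        (mem_normalizer_iff.1 (hHn (hX'H huX)) _).1 (inv_mem hyO)
      simpa [mul_assoc] using mul_mem hyO h2
    have h3 : y * u * y⁻¹ * u⁻¹ ∈ X' := by
      rw [hyu]; exact mul_mem (inv_mem huX) (inv_mem huX)
    have h4 := CharTwo.eq_one_of_coprime_of_mem hO h1 (hodd _ h3)
    rw [hyu] at h4
    have h5 : u ^ 2 ∈ (⊥ : Subgroup G) := by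
      rw [mem_bot, pow_two, ← inv_eq_one, mul_inv_rev, h4]
    exact hu1 (mem_bot.1 (mem_of_sq_mem hp2 hup h5))
  have hWy : W ≤ centralizer ({y} : Set G) :=
    sup_le (sup_le (zpowers_le.2 (mem_centralizer_singleton_iff.2 hsy.eq))
      (zpowers_le.2 (mem_centralizer_singleton_iff.2 hdy.eq)))
      (zpowers_le.2 (mem_centralizer_singleton_iff.2 hd'y.eq))
  have E2 := elem_sup_zpowers E1 (hX.2 y hy) (fun z hz => mem_centralizer_singleton_iff.1 (hWy hz))
  have c2 := card_mul_le_sup_zpowers E2 hyW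
  have hKK' : W ⊔ zpowers y ≤ centralizer ((K ⊓ K' : Subgroup G) : Set G) := by
    refine sup_le (sup_le (sup_le (zpowers_le.2 ?_) (zpowers_le.2 hdK)) (zpowers_le.2 hd'K))
      (zpowers_le.2 ?_)
    · intro a ha
      exact (hsH a (hX'H (hKX ha.1))).eq
    · intro a ha
      obtain ⟨b, hb, w, hw, e1, e2⟩ := hconjX a (hKX ha.1)
      have e3 : y * a * y⁻¹ ∈ K' := hK'mem a ha.1
      -- `a` lies in `K'` as well, so `w ^ 2` lies in `K ⊓ K'` and `u` in `K` unless `w = 1`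
      by_contra hne
      obtain ⟨a', ha', ea'⟩ := ha.2
      have e4 : y * a * y⁻¹ ∈ K := by
        have : y * a * y⁻¹ = a' := by
          rw [← ea']
          show y * (y * a' * y⁻¹) * y⁻¹ = a'
          calc y * (y * a' * y⁻¹) * y⁻¹ = (y * y) * a' * (y * y)⁻¹ := by group
            _ = a' := by rw [hyy, one_mul, inv_one, mul_one]
        rw [this]; exact ha'
      have hw2 : w ^ 2 = (b * w⁻¹)⁻¹ * a := by rw [e1, pow_two]; group
      have hwp : w ^ p = 1 := hX'.2 w (mem_sup_right hw)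
      have hwK : w ∈ K :=
        mem_of_sq_mem hp2 hwp (by rw [hw2]; exact mul_mem (inv_mem (e2 ▸ e4)) ha.1)
      have hw1 : w = 1 := by
        by_contra hw1
        have h1 : zpowers w = zpowers u := by
          refine eq_of_le_of_card_ge (zpowers_le.2 hw) ?_
          rw [Nat.card_zpowers, Nat.card_zpowers, huo, orderOf_eq_prime hwp hw1]
        exact huK (zpowers_le.2 hwK (h1 ▸ mem_zpowers u))
      apply hne
      rw [e1, hw1, mul_one]
      exact mem_centralizer_iff.1 (hXB hy) b hb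
  have hcard := R2w (K ⊓ K') (W ⊔ zpowers y) (Signalizer.elemAb_mono hX' (inf_le_left.trans hKX))
    (pow_le_card_inf (by omega) hX'card hKX hK'X hKcard hK'card) E2 hKK'
  have : 2 ^ 3 * 2 ≤ 2 ^ 3 := le_trans (Nat.mul_le_mul_right 2 c1) (le_trans c2 hcard)
  norm_num at this

/-- An elementary abelian `p`-group of largest possible order in a 2-local subgroup has order
less than `p ^ 3`. -/
theorem lt_three (hp2 : p ≠ 2) (hG : Cfsg.IsOfLocalCharacteristic p G)
    (hG2 : Cfsg.IsCharacteristicTwoType G) {n : ℕ}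
    (hmax : ∀ E : Subgroup G, Cfsg.IsElementaryAbelian p E → InTwoLocal E →
      Nat.card E ≤ p ^ n)
    {B : Subgroup G} (hB : Cfsg.IsElementaryAbelian p B) (hBl : InTwoLocal B)
    (hBcard : Nat.card B = p ^ n) : n < 3 := by
  haveI : Fact (Nat.Prime 2) := ⟨Nat.prime_two⟩
  by_contra hn
  rw [not_lt] at hn
  have R0 : Bound p G n 1 := Bound.step hp2 hG (by omega) (bound_zero hmax)
  have R1 : Bound p G (n - 1) 1 := bound_one hp2 hG hG2 hn hmax
  have R2 : Bound p G (n - 2) 2 :=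
    Bound.step hp2 hG (by omega) (by rw [show n - 2 + 1 = n - 1 by omega]; exact R1)
  obtain ⟨T, hT, hT1, hBT⟩ := hBl
  obtain ⟨hTO, hHO⟩ := twoLocal_core hG2 hT hT1
  let H : Subgroup G := normalizer (T : Set G)
  let O : Subgroup G := coreIn 2 H
  have hO : IsPGroup 2 O := coreIn_isPGroup 2 H
  have hHn : H ≤ normalizer (O : Set G) := le_normalizer_coreIn 2 H
  obtain ⟨C, hCO, hCn, hCcomm, hCsq, hCcen⟩ := exists_critical O hO
  have hC : IsPGroup 2 C := hO.to_le hCO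
  have hBC : B ≤ normalizer (C : Set G) := hBT.trans (hHn.trans hCn)
  have hodd : ∀ a ∈ B, (orderOf a).Coprime 2 := fun a ha => coprime_two_orderOf hp2 hB ha
  have hfaith : ∀ b ∈ B, b ∈ centralizer (C : Set G) → b = 1 := fun b hb hbC =>
    CharTwo.eq_one_of_coprime_of_mem hO
      (hHO ⟨hBT hb, mem_centralizer_of_critical hO hCO hCn hCcen (hHn (hBT hb)) (hodd b hb) hbC⟩)
      (hodd b hb)
  have hC1 : C ≠ ⊥ := by
    intro h
    refine hT1 (eq_bot_iff.2 (hTO.trans fun x hx => ?_))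
    refine h ▸ hCcen ⟨hx, ?_⟩
    rw [h]
    intro c hc
    rw [mem_bot.1 hc, one_mul, mul_one]
  obtain ⟨Z, hZC, hZ, hZn, hZmem⟩ := exists_omega C
  have hBZ : B ≤ normalizer (Z : Set G) := hBC.trans hZn
  have hcop : ∀ W : Subgroup G, IsPGroup 2 W → ¬ p ∣ Nat.card W := by
    intro W hW h
    obtain ⟨m, hm⟩ := IsPGroup.iff_card.1 hW
    rw [hm] at h
    exact hp2 ((Nat.prime_dvd_prime_iff_eq hp.out Nat.prime_two).1 (hp.out.dvd_of_dvd_pow h))
  have hZB : Z ≤ centralizer (B : Set G) := by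
    refine Signalizer.le_of_forall_hyperplane hB hBZ (hcop Z (Signalizer.elemAb_isPGroup hZ))
      fun K hK hKi z hz => ?_
    have hcard := R1 K (Z ⊓ centralizer (K : Set G)) (Signalizer.elemAb_mono hB hK)
      (pow_le_card_of_relIndex_le (by omega) hK hBcard.ge hKi) (elemAb_of_le hZ inf_le_left)
      inf_le_right
    intro a ha
    exact (commute_of_card_le_two (by simpa using hcard)
      (Signalizer.elemAb_inf_centralizer_normalizer hB hK hBZ ha) z hz).eq
  have hZcard : Nat.card Z ≤ 2 := by simpa using R0 B Z hB hBcard.ge hZ hZB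
  obtain ⟨t, htm, ht1⟩ : ∃ t ∈ Z, t ≠ 1 := by
    haveI : Nontrivial C := (nontrivial_iff_ne_bot C).2 hC1
    haveI := hC.center_nontrivial
    obtain ⟨z, hz⟩ := exists_ne (1 : Subgroup.center C)
    have hz1 : ((z : C) : G) ≠ 1 := fun h => hz (Subtype.ext (Subtype.ext h))
    have hzc : ((z : C) : G) ∈ C ⊓ centralizer (C : Set G) :=
      ⟨(z : C).2, fun c hc => congrArg Subtype.val (Subgroup.mem_center_iff.1 z.2 ⟨c, hc⟩)⟩
    obtain ⟨i, hi⟩ := exists_pow_orderOf hC hzc.1 hz1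
    refine ⟨_, (hZmem _).2 ⟨pow_mem hzc i, ?_⟩, ?_⟩
    · have := pow_orderOf_eq_one (((z : C) : G) ^ i)
      rwa [hi] at this
    · intro h; rw [h, orderOf_one] at hi; omega
  obtain ⟨htC, ht2⟩ := (hZmem t).1 htm
  have S : Setting C B t :=
    { two := hC
      norm := hBC
      odd := hodd
      t_mem := htC
      t_sq := ht2
      fixed := fun z hz a ha => commute_center_of_omega hC (hBC ha) (hodd a ha)
        (fun w hw hw2 => (mem_centralizer_iff.1 (hZB ((hZmem w).2 ⟨hw, hw2⟩)) a ha)) z hz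
      omega := fun z hz hz2 => eq_or_eq_of_card_le_two hZcard htm ht1 ((hZmem z).2 ⟨hz, hz2⟩)
      comm_mem := fun x hx y hy => hCcomm x hx y (hCO hy)
      sq_mem := hCsq }
  have hB1 : B ≠ ⊥ := ne_bot_of_pow_le (j := n) (by omega) hBcard.ge
  obtain ⟨K1, hK1, hK1i, g1, hg1, hg1B⟩ : ∃ K : Subgroup G, K ≤ B ∧ K.relIndex B ≤ p ∧
      ∃ g : G, g ∈ C ⊓ centralizer (K : Set G) ∧ g ∉ centralizer (B : Set G) := by
    by_contra hcon
    push Not at hcon
    have hle : C ≤ centralizer (B : Set G) :=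
      Signalizer.le_of_forall_hyperplane hB hBC (hcop C hC) fun K hK hKi z hz => hcon K hK hKi z hz
    obtain ⟨b, hb, hb1⟩ := (B.bot_or_exists_ne_one).resolve_left hB1
    exact hb1 (hfaith b hb (le_centralizer_iff.1 hle hb))
  have hK1card := pow_le_card_of_relIndex_le (by omega) hK1 hBcard.ge hK1i
  obtain ⟨K2, hK2, hK2i, g2, hg2, hg2B, hne⟩ : ∃ K : Subgroup G, K ≤ B ∧ K.relIndex B ≤ p ∧
      ∃ g : G, g ∈ C ⊓ centralizer (K : Set G) ∧ g ∉ centralizer (B : Set G) ∧ K ≠ K1 := by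
    by_contra hcon
    push Not at hcon
    have hle : C ≤ centralizer (K1 : Set G) := by
      refine Signalizer.le_of_forall_hyperplane hB hBC (hcop C hC) fun K hK hKi z hz => ?_
      by_cases hzB : z ∈ centralizer (B : Set G)
      · exact Subgroup.centralizer_le (SetLike.coe_subset_coe.2 hK1) hzB
      · rw [← hcon K hK hKi z hz hzB]; exact hz.2
    obtain ⟨b, hb, hb1⟩ :=
      (K1.bot_or_exists_ne_one).resolve_left (ne_bot_of_pow_le (j := n - 1) (by omega) hK1card)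
    exact hb1 (hfaith b (hK1 hb) (le_centralizer_iff.1 hle hb))
  have hK2card := pow_le_card_of_relIndex_le (by omega) hK2 hBcard.ge hK2i
  have hlt : ∀ {K : Subgroup G} {g : G}, K ≤ B → g ∈ centralizer (K : Set G) →
      g ∉ centralizer (B : Set G) → Nat.card K ≤ p ^ (n - 1) := by
    intro K g hK hg hgB
    have h : K < B := lt_of_le_of_ne hK fun h => hgB (h ▸ hg)
    have := Signalizer.mul_prime_le_card_of_lt (Signalizer.elemAb_isPGroup hB) h
    refine Nat.le_of_mul_le_mul_right ?_ hp.out.pos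
    rw [← pow_succ, Nat.sub_add_cancel (by omega : 1 ≤ n), ← hBcard]
    exact this
  obtain ⟨c1, hc1, hc1'⟩ := SetLike.not_le_iff_exists.1 (fun h : K2 ≤ K1 =>
    hne (eq_of_le_of_card_ge h ((hlt hK1 hg1.2 hg1B).trans hK2card)))
  obtain ⟨c2, hc2, hc2'⟩ := SetLike.not_le_iff_exists.1 (fun h : K1 ≤ K2 =>
    hne (eq_of_le_of_card_ge h ((hlt hK2 hg2.2 hg2B).trans hK1card)).symm)
  obtain ⟨x1, hx1m, hy1m, hx1sq, hnc1, hnq1, hcomm1⟩ := S.exists_moved hB.1 hK1 (hK2 hc1) hg1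
    (exists_not_commute_of_hyperplane (by omega) hB hBcard hK1 hK1card hg1.2 hg1B (hK2 hc1) hc1')
  obtain ⟨x2, hx2m, hy2m, hx2sq, hnc2, hnq2, -⟩ := S.exists_moved hB.1 hK2 (hK1 hc2) hg2
    (exists_not_commute_of_hyperplane (by omega) hB hBcard hK2 hK2card hg2.2 hg2B (hK1 hc2) hc2')
  -- facts on each of the two pairs
  have hpair : ∀ {K : Subgroup G} {c x : G}, K ≤ B → p ^ (n - 1) ≤ Nat.card K → c ∈ B →
      x ∈ C ⊓ centralizer (K : Set G) → c * x * c⁻¹ ∈ C ⊓ centralizer (K : Set G) →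
      (x ^ 2 = 1 ∨ x ^ 2 = t) → ¬ Commute c x →
      x * x = t ∧ (c * x * c⁻¹) * (c * x * c⁻¹) = t ∧
        (c * x * c⁻¹) * x = t * (x * (c * x * c⁻¹)) := by
    intro K c x hK hKcard hc hx hy hsq hnc
    have htK : t ∈ centralizer (K : Set G) := fun k hk => (S.fixed t htC k (hK hk)).eq
    have hinv : ∀ z ∈ C ⊓ centralizer (K : Set G), z ^ 2 = 1 → z = 1 ∨ z = t := by
      intro z hz hz2
      have hE : Cfsg.IsElementaryAbelian 2 (zpowers t ⊔ zpowers z) := by
        refine elem_sup_zpowers (elem_zpowers ht2) hz2 ?_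
        rintro _ ⟨i, rfl⟩
        exact (show Commute t z from (mem_centralizer_iff.1 htC.2 z hz.1).symm).zpow_left i
      have hle := R1 K _ (Signalizer.elemAb_mono hB hK) hKcard hE
        (sup_le (zpowers_le.2 htK) (zpowers_le.2 hz.2))
      exact eq_or_eq_of_card_le_two (by simpa using hle) (mem_sup_left (mem_zpowers t)) ht1
        (mem_sup_right (mem_zpowers z))
    have hct : ∀ z, z = 1 ∨ z = t → Commute c z := by
      rintro z (rfl | rfl)
      · exact Commute.one_right c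
      · exact S.fixed z htC c hc
    have hxx : x * x = t := by
      rw [← pow_two]
      rcases hsq with h | h
      · exact absurd (hct x (hinv x hx h)) hnc
      · exact h
    have hyy : (c * x * c⁻¹) * (c * x * c⁻¹) = t := by
      calc (c * x * c⁻¹) * (c * x * c⁻¹) = c * (x * x) * c⁻¹ := by group
        _ = c * t * c⁻¹ := by rw [hxx]
        _ = t := S.conj_eq_of_fixed hc htC
    have htt : t * t = 1 := by rw [← pow_two]; exact ht2
    have htcomm : ∀ z ∈ C, z * t = t * z := fun z hz => mem_centralizer_iff.1 htC.2 z hz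
    have hxy : c * x * c⁻¹ * x = ⁅c * x * c⁻¹, x⁆ * (x * (c * x * c⁻¹)) := by
      simp only [commutatorElement_def]; group
    refine ⟨hxx, hyy, ?_⟩
    rcases S.commutator_cases hy.1 hx.1 with h | h
    · exfalso
      rw [h, one_mul] at hxy
      have h2 : (x * (c * x * c⁻¹)) ^ 2 = 1 := by
        rw [pow_two]
        calc x * (c * x * c⁻¹) * (x * (c * x * c⁻¹))
            = x * ((c * x * c⁻¹) * x) * (c * x * c⁻¹) := by group
          _ = x * (x * (c * x * c⁻¹)) * (c * x * c⁻¹) := by rw [hxy]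
          _ = (x * x) * ((c * x * c⁻¹) * (c * x * c⁻¹)) := by group
          _ = 1 := by rw [hxx, hyy, htt]
      refine hnc (commute_of_conj_mem_pair (S.odd c hc) ht2 (hct t (Or.inr rfl)) ?_)
      have hxinv : x⁻¹ = t * x := by
        apply inv_eq_of_mul_eq_one_right
        rw [← mul_assoc, htcomm x hx.1, mul_assoc, hxx, htt]
      rcases hinv _ (mul_mem hx hy) h2 with h3 | h3
      · right
        rw [← hxinv]
        exact eq_inv_of_mul_eq_one_right h3
      · left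
        apply mul_left_cancel (a := x)
        rw [h3, hxx]
    · rw [h] at hxy
      exact hxy
  obtain ⟨e1, e1', f1⟩ := hpair hK1 hK1card (hK2 hc1) hx1m hy1m hx1sq hnc1
  obtain ⟨e2, e2', f2⟩ := hpair hK2 hK2card (hK1 hc2) hx2m hy2m hx2sq hnc2
  let y1 : G := c1 * x1 * c1⁻¹
  let y2 : G := c2 * x2 * c2⁻¹
  have hfix : ∀ z ∈ C ⊓ centralizer (K2 : Set G), Commute c1 z := fun z hz =>
    mem_centralizer_iff.1 hz.2 c1 hc1
  obtain ⟨a11, a21⟩ := hcomm1 x2 hx2m.1 (hfix x2 hx2m)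
  obtain ⟨a12, a22⟩ := hcomm1 y2 hy2m.1 (hfix y2 hy2m)
  have htt : t * t = 1 := by rw [← pow_two]; exact ht2
  have htcomm : ∀ z ∈ C, Commute t z := fun z hz => (mem_centralizer_iff.1 htC.2 z hz).symm
  have hd2 : (x1 * x2) ^ 2 = 1 := by
    rw [(a11 : Commute x1 x2).mul_pow, pow_two, pow_two, e1, e2, htt]
  have hd'2 : (y1 * y2) ^ 2 = 1 := by
    rw [(a22 : Commute y1 y2).mul_pow, pow_two, pow_two]
    show c1 * x1 * c1⁻¹ * (c1 * x1 * c1⁻¹) * (c2 * x2 * c2⁻¹ * (c2 * x2 * c2⁻¹)) = 1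
    rw [e1', e2', htt]
  have hdd' : Commute (x1 * x2) (y1 * y2) := by
    show (x1 * x2) * (y1 * y2) = (y1 * y2) * (x1 * x2)
    have a21' : y1 * x2 = x2 * y1 := a21.eq
    have f1' : y1 * x1 = t * (x1 * y1) := f1
    have f2' : y2 * x2 = t * (x2 * y2) := f2
    calc (x1 * x2) * (y1 * y2) = x1 * (x2 * y1) * y2 := by group
      _ = x1 * (y1 * x2) * y2 := by rw [← a21']
      _ = (x1 * y1) * (x2 * y2) := by group
      _ = (t * t) * ((x1 * y1) * (x2 * y2)) := by rw [htt, one_mul]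
      _ = t * (t * (x1 * y1)) * (x2 * y2) := by group
      _ = t * (y1 * x1) * (x2 * y2) := by rw [← f1']
      _ = (y1 * x1) * t * (x2 * y2) := by rw [(htcomm _ (mul_mem hy1m.1 hx1m.1)).eq]
      _ = y1 * x1 * (y2 * x2) := by rw [f2']; group
      _ = y1 * (x1 * y2) * x2 := by group
      _ = y1 * (y2 * x1) * x2 := by rw [a12.eq]
      _ = _ := by group
  have hτ : ∀ τ : G, τ = 1 ∨ τ = t → Commute c1 τ ∧ ∀ z ∈ C, Commute τ z := by
    rintro τ (rfl | rfl)
    · exact ⟨Commute.one_right c1, fun z _ => Commute.one_left z⟩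
    · exact ⟨S.fixed τ htC c1 (hK2 hc1), htcomm⟩
  have hnd : ∀ τ : G, τ = 1 ∨ τ = t → x1 * x2 ≠ τ := by
    intro τ hτ' h
    apply hnc1
    rw [eq_mul_inv_of_mul_eq h]
    exact (hτ τ hτ').1.mul_right (hfix x2 hx2m).inv_right
  have hnd' : ∀ τ : G, τ = 1 ∨ τ = t → y1 * y2 ≠ τ ∧ y1 * y2 ≠ τ * (x1 * x2) := by
    intro τ hτ'
    constructor
    · intro h
      apply hnc1
      have h2 : Commute c1 y1 := by
        rw [eq_mul_inv_of_mul_eq h]; exact (hτ τ hτ').1.mul_right (hfix y2 hy2m).inv_right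
      have h3 := (Commute.conj_iff (c1⁻¹)).2 h2
      simpa [y1, mul_assoc] using h3
    · intro h
      apply hnq1
      have h1 : x1⁻¹ * y1 = τ * x2 * y2⁻¹ := by
        rw [eq_mul_inv_iff_mul_eq, mul_assoc, h, ← mul_assoc τ x1 x2,
          ((hτ τ hτ').2 x1 hx1m.1).eq, mul_assoc x1 τ, inv_mul_cancel_left]
      show Commute c1 (x1⁻¹ * y1)
      rw [h1]
      exact ((hτ τ hτ').1.mul_right (hfix x2 hx2m)).mul_right (hfix y2 hy2m).inv_right
  obtain ⟨E, hE⟩ := three_le_card ht2 hd2 hd'2 (htcomm _ (mul_mem hx1m.1 hx2m.1))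
    (htcomm _ (mul_mem hy1m.1 hy2m.1)) hdd' ht1 (hnd 1 (Or.inl rfl)) (hnd t (Or.inr rfl)) hnd'
  have hc : ∀ z ∈ C ⊓ centralizer (K1 : Set G), ∀ w ∈ C ⊓ centralizer (K2 : Set G),
      z * w ∈ centralizer ((K1 ⊓ K2 : Subgroup G) : Set G) := fun z hz w hw =>
    mul_mem (Subgroup.centralizer_le (SetLike.coe_subset_coe.2 inf_le_left) hz.2)
      (Subgroup.centralizer_le (SetLike.coe_subset_coe.2 inf_le_right) hw.2)
  have hle := R2 (K1 ⊓ K2) _ (Signalizer.elemAb_mono hB (inf_le_left.trans hK1))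
    (pow_le_card_inf (by omega) hBcard hK1 hK2 hK1card hK2card) E
    (sup_le (sup_le (zpowers_le.2 (fun k hk => (S.fixed t htC k (hK1 hk.1)).eq))
      (zpowers_le.2 (hc _ hx1m _ hx2m))) (zpowers_le.2 (hc _ hy1m _ hy2m)))
  have := le_trans hE hle
  norm_num at this

theorem prankLE_two (hp2 : p ≠ 2) (hG : Cfsg.IsOfLocalCharacteristic p G)
    (hG2 : Cfsg.IsCharacteristicTwoType G) {E : Subgroup G} (hE : Cfsg.IsElementaryAbelian p E)
    (hEl : InTwoLocal E) : Nat.card E ≤ p ^ 2 := by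
  classical
  obtain ⟨B, ⟨hB, hBl⟩, hmax⟩ := Set.exists_max_image
    {F : Subgroup G | Cfsg.IsElementaryAbelian p F ∧ InTwoLocal F} (fun F => Nat.card F)
    (Set.toFinite _) ⟨E, hE, hEl⟩
  obtain ⟨n, hn⟩ := elemAb_card_eq_pow hB
  have hn3 := lt_three hp2 hG hG2 (fun F hF hFl => (hmax F ⟨hF, hFl⟩).trans hn.le) hB hBl hn
  refine (hmax E ⟨hE, hEl⟩).trans ?_
  rw [hn]
  exact Nat.pow_le_pow_right hp.out.pos (by omega)

end Cfsg.Agent.Classif.BicharRank
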