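import Cfsg.Agent.OddLocal.NormedConstrained
import Cfsg.Agent.OddLocal.Transitivity
import Cfsg.Agent.S1457

/-!
Invariant `p'`-subgroups of centralizers of `p`-elements of a self-centralizing normal abelian
subgroup of a Sylow subgroup, assuming only solvable `p`-element centralizers and odd order.
-/

set_option autoImplicit false

namespace Cfsg.Agent.Classif.OddSCN

open Subgroup OddLocal
open scoped commutatorElement

variable {G : Type*} [Group G] [Finite G] {p : ℕ} [Fact p.Prime]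

theorem odd_sub (hX : Odd (Nat.card G)) (H : Subgroup G) : Odd (Nat.card H) := by
  rw [← Nat.not_even_iff_odd, even_iff_two_dvd] at hX ⊢
  exact fun h => hX (h.trans (Subgroup.card_subgroup_dvd_card H))

theorem scn_case (hX : Odd (Nat.card G)) (P : Sylow p G)
    {A : Subgroup G} (hscn : Cfsg.IsSCN (P : Subgroup G) A) (hAc : IsMulCommutative A)
    {H : Subgroup G} (hH : Group.IsSolvable H) (hPH : (P : Subgroup G) ≤ H)
    {W : Subgroup G} (hWH : W ≤ H) (hWA : A ≤ normalizer (W : Set G))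
    (hW : (Nat.card W).Coprime p) : W ≤ Cfsg.piCoreOf {q : ℕ | q.Prime ∧ q ≠ p} H := by
  obtain ⟨hAP, hAn, hcent⟩ := hscn
  refine map_pPrimeCore_eq hWH ?_
  haveI := hH
  have hAc' : IsMulCommutative (A.subgroupOf H) := isMulComm_subgroupOf hAc H
  refine normed_le_pPrimeCore_of_scn (P.subtype hPH) hAc' (fun a ha => hAP ha) ?_
    (S1457.result (odd_sub hX H) p (P.subtype hPH) _ (fun a ha => hAP ha) hAc' ?_) ?_ ?_
  · refine le_antisymm ?_ ?_
    · rintro x ⟨hxP, hxC⟩
      show (x : G) ∈ A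
      rw [← hcent]
      refine ⟨hxP, ?_⟩
      show (x : G) ∈ centralizer (A : Set G)
      rw [Subgroup.mem_centralizer_iff]
      intro a ha
      exact congrArg Subtype.val
        (Subgroup.mem_centralizer_iff.1 hxC ⟨a, hPH (hAP ha)⟩ ha)
    · intro x hx
      refine ⟨hAP hx, ?_⟩
      show x ∈ centralizer ((A.subgroupOf H : Subgroup H) : Set H)
      rw [Subgroup.mem_centralizer_iff]
      intro a ha
      exact Subtype.ext (comm_of_mem hAc ha hx)
  · rw [← Subgroup.subgroupOf_normalizer_eq (hAP.trans hPH)]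
    exact fun a ha => hAn ha
  · rw [← Subgroup.subgroupOf_normalizer_eq hWH]
    exact fun a ha => hWA ha
  · rw [Nat.card_congr (Subgroup.subgroupOfEquivOfLe hWH).toEquiv]
    exact hW


/-- An `A`-invariant `p'`-subgroup of `C(a)`, `a ∈ Ω₁(A)#`, lies in `O_{p'}(C(a))`. -/
theorem invariant_le_core (hX : Odd (Nat.card G))
    (hsolv : ∀ e : G, e ≠ 1 → IsPGroup p (zpowers e) →
      Group.IsSolvable (centralizer ({e} : Set G)))
    (P : Sylow p G) {A : Subgroup G} (hAc : IsMulCommutative A)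
    (hscn : Cfsg.IsSCN (P : Subgroup G) A) (hr : ¬ Cfsg.PRankLE p 1 A)
    {a : G} (haA : a ∈ A) (ha1 : a ≠ 1)
    {U : Subgroup G} (hUa : U ≤ centralizer ({a} : Set G)) (hUA : A ≤ normalizer (U : Set G))
    (hU : (Nat.card U).Coprime p) :
    U ≤ Cfsg.piCoreOf {q : ℕ | q.Prime ∧ q ≠ p} (centralizer ({a} : Set G)) := by
  obtain ⟨hAP, hAn, hcent⟩ := hscn
  have hp : p.Prime := Fact.out
  have hAp : IsPGroup p A := P.2.to_le hAP
  -- `Ω₁(A)`
  let Ω : Subgroup G :=
    { carrier := {x : G | x ∈ A ∧ x ^ p = 1}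
      one_mem' := ⟨A.one_mem, one_pow _⟩
      mul_mem' := fun {x y} hx hy => ⟨A.mul_mem hx.1 hy.1, by
        rw [(show Commute x y from congrArg Subtype.val
          (hAc.is_comm.comm ⟨x, hx.1⟩ ⟨y, hy.1⟩)).mul_pow, hx.2, hy.2, one_mul]⟩
      inv_mem' := fun {x} hx => ⟨A.inv_mem hx.1, by rw [inv_pow, hx.2, inv_one]⟩ }
  obtain ⟨E, hEe, hEcard⟩ : ∃ E : Subgroup A,
      Cfsg.IsElementaryAbelian p E ∧ p ^ 1 < Nat.card E := by
    by_contra hne
    exact hr fun E h1 h2 => not_lt.1 fun hlt => hne ⟨E, ⟨h1, h2⟩, hlt⟩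
  have hΩcard : p < Nat.card Ω := by
    have hle : E.map A.subtype ≤ Ω := by
      rintro _ ⟨x, hx, rfl⟩
      exact ⟨x.2, by simpa using congrArg Subtype.val (hEe.2 x hx)⟩
    have := Subgroup.card_le_of_le hle
    rw [← Nat.card_congr (E.equivMapOfInjective _ A.subtype_injective).toEquiv] at this
    rw [pow_one] at hEcard
    omega
  have hA1 : A ≠ ⊥ := by
    rintro rfl
    have : Ω = ⊥ := le_bot_iff.1 fun x hx => hx.1
    rw [this, Subgroup.card_bot] at hΩcard
    exact absurd hΩcard (by have := hp.one_le; omega)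
  -- the element `z`
  obtain ⟨z, hzP, hzord⟩ : ∃ z ∈ (P : Subgroup G) ⊓ centralizer ((P : Subgroup G) : Set G),
      orderOf z = p := by
    haveI : Nontrivial (P : Subgroup G) :=
      (Subgroup.nontrivial_iff_ne_bot _).2 fun h => hA1 (le_bot_iff.1 (h ▸ hAP))
    obtain ⟨n, hn⟩ := (P.2.to_subgroup (center (P : Subgroup G))).exists_card_eq
    have hn0 : n ≠ 0 := fun h =>
      (bot_lt_iff_ne_bot.1 P.2.bot_lt_center) (Subgroup.card_eq_one.1 (by simpa [h] using hn))
    obtain ⟨z, hz⟩ := exists_prime_orderOf_dvd_card' (G := center (P : Subgroup G)) p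
      (hn ▸ dvd_pow_self p hn0)
    refine ⟨z.1.1, ⟨z.1.2, ?_⟩, ?_⟩
    · show z.1.1 ∈ centralizer ((P : Subgroup G) : Set G)
      rw [Subgroup.mem_centralizer_iff]
      intro y hy
      exact congrArg Subtype.val (Subgroup.mem_center_iff.1 z.2 ⟨y, hy⟩)
    · rw [Subgroup.orderOf_coe, Subgroup.orderOf_coe, hz]
  have hz1 : z ≠ 1 := fun h => hp.ne_one (by rw [← hzord, h, orderOf_one])
  have hzp : z ^ p = 1 := hzord ▸ pow_orderOf_eq_one z
  have hzA : z ∈ A := by
    rw [← hcent]
    exact ⟨hzP.1, Subgroup.centralizer_le (SetLike.coe_subset_coe.2 hAP) hzP.2⟩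
  have hZ0Ω : ¬ Ω ≤ zpowers z := fun h => by
    have := Subgroup.card_le_of_le h
    rw [Nat.card_zpowers, hzord] at this
    omega
  obtain ⟨b, hbΩ, hbZ, hbc⟩ := exists_central_mod (Ω := Ω) P.2 (fun x hx => hAP hx.1) (by
    rw [Subgroup.le_normalizer_iff]
    exact fun g hg x hx => ⟨(Subgroup.mem_normalizer_iff.1 (hAn hg) x).1 hx.1, by
      rw [conj_pow, hx.2, mul_one, mul_inv_cancel]⟩) hZ0Ω
  have hbA : b ∈ A := hbΩ.1
  have hcz : ∀ y ∈ (P : Subgroup G), y * z = z * y := fun y hy =>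
    Subgroup.mem_centralizer_iff.1 hzP.2 y hy
  -- main claim for centralizers of elements of `Ω`
  have hgood : ∀ e ∈ Ω, e ≠ 1 → (∀ y ∈ (P : Subgroup G), ⁅y, e⁆ ∈ zpowers z) →
      ∀ W : Subgroup G, W ≤ centralizer ({e} : Set G) → A ≤ normalizer (W : Set G) →
        (Nat.card W).Coprime p →
        W ≤ Cfsg.piCoreOf {q : ℕ | q.Prime ∧ q ≠ p} (centralizer ({e} : Set G)) := by
    intro e he he1 hec W hWe hWA hW
    set H := centralizer ({e} : Set G) with hHdef
    have hH : Group.IsSolvable H := hsolv e he1 (isPGroup_zpowers_of_mem hAp he.1)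
    have hzcen : (P : Subgroup G) ≤ centralizer ({z} : Set G) := fun y hy =>
      Subgroup.mem_centralizer_singleton_iff.2 (hcz y hy)
    have hzcase : ∀ V : Subgroup G, V ≤ centralizer ({z} : Set G) → A ≤ normalizer (V : Set G) →
        (Nat.card V).Coprime p →
        V ≤ Cfsg.piCoreOf {q : ℕ | q.Prime ∧ q ≠ p} (centralizer ({z} : Set G)) :=
      fun V hVz hVA hV => scn_case hX P ⟨hAP, hAn, hcent⟩ hAc
        (hsolv z hz1 (isPGroup_zpowers_of_mem hAp hzA)) hzcen hVz hVA hV
    have hAH : A ≤ H := fun a ha => Subgroup.mem_centralizer_singleton_iff.2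
      (congrArg Subtype.val (hAc.is_comm.comm ⟨e, he.1⟩ ⟨a, ha⟩)).symm
    -- `Q = C_P(e)` has index at most `p` in a Sylow subgroup `R` of `H`
    set Q := (P : Subgroup G) ⊓ H with hQ
    have hQidx : Q.relIndex (P : Subgroup G) ∣ p := by
      let f : (P : Subgroup G) →* zpowers z :=
        MonoidHom.mk' (fun y => ⟨⁅(y : G), e⁆, hec y y.2⟩) fun y₁ y₂ => Subtype.ext <| by
          show ⁅(y₁ : G) * y₂, e⁆ = ⁅(y₁ : G), e⁆ * ⁅(y₂ : G), e⁆
          obtain ⟨i, hi⟩ := Subgroup.mem_zpowers_iff.1 (hec y₂ y₂.2)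
          obtain ⟨j, hj⟩ := Subgroup.mem_zpowers_iff.1 (hec y₁ y₁.2)
          have h1 : (y₁ : G) * ⁅(y₂ : G), e⁆ * (y₁ : G)⁻¹ = ⁅(y₂ : G), e⁆ := by
            rw [← hi, ((show Commute (y₁ : G) z from hcz _ y₁.2).zpow_right i).eq,
              mul_inv_cancel_right]
          have e1 : ⁅(y₁ : G) * y₂, e⁆ =
              ((y₁ : G) * ⁅(y₂ : G), e⁆ * (y₁ : G)⁻¹) * ⁅(y₁ : G), e⁆ := by
            simp [commutatorElement_def, mul_assoc]
          rw [e1, h1, ← hi, ← hj, ← zpow_add, ← zpow_add, add_comm]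
      have hker : f.ker = Q.subgroupOf (P : Subgroup G) := by
        ext y
        rw [MonoidHom.mem_ker, Subgroup.mem_subgroupOf]
        constructor
        · intro h
          exact ⟨y.2, Subgroup.mem_centralizer_singleton_iff.2
            (commutatorElement_eq_one_iff_mul_comm.1 (congrArg Subtype.val h))⟩
        · intro h
          exact Subtype.ext (commutatorElement_eq_one_iff_mul_comm.2
            (Subgroup.mem_centralizer_singleton_iff.1 h.2))
      show (Q.subgroupOf (P : Subgroup G)).index ∣ p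
      rw [← hker, Subgroup.index_ker]
      exact (Subgroup.card_subgroup_dvd_card f.range).trans
        (dvd_of_eq ((Nat.card_zpowers z).trans hzord))
    have hQp : IsPGroup p (Q.subgroupOf H) :=
      (P.2.to_le (inf_le_left : Q ≤ P)).comap_subtype
    obtain ⟨R, hR⟩ := hQp.exists_le_sylow
    have hRcard : Nat.card (R : Subgroup H) ∣ Nat.card (P : Subgroup G) := by
      obtain ⟨T, hT⟩ := (R.2.map H.subtype).exists_le_sylow
      rw [Nat.card_congr ((R : Subgroup H).equivMapOfInjective _ H.subtype_injective).toEquiv,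
        Sylow.card_eq_multiplicity P, ← Sylow.card_eq_multiplicity T]
      exact Subgroup.card_dvd_of_le hT
    have hQR : ((Q.subgroupOf H).subgroupOf (R : Subgroup H)).index ∣ p := by
      have hc1 : Nat.card (Q.subgroupOf H) = Nat.card Q :=
        Nat.card_congr (Subgroup.subgroupOfEquivOfLe inf_le_right).toEquiv
      have hc2 := Subgroup.card_mul_index ((Q.subgroupOf H).subgroupOf (R : Subgroup H))
      rw [Nat.card_congr (Subgroup.subgroupOfEquivOfLe hR).toEquiv, hc1] at hc2
      have hc3 := Subgroup.card_mul_index (Q.subgroupOf (P : Subgroup G))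
      rw [Nat.card_congr (Subgroup.subgroupOfEquivOfLe (inf_le_left : Q ≤ P)).toEquiv] at hc3
      refine (Nat.mul_dvd_mul_iff_left (Nat.card_pos (α := Q))).1 ?_
      rw [hc2]
      refine hRcard.trans ?_
      rw [← hc3]
      exact Nat.mul_dvd_mul_left _ hQidx
    have hQRn : ((Q.subgroupOf H).subgroupOf (R : Subgroup H)).Normal := by
      rcases (Nat.dvd_prime hp).1 hQR with h | h
      · rw [Subgroup.index_eq_one.1 h]; infer_instance
      · obtain ⟨n, hn⟩ := R.2.exists_card_eq
        refine Subgroup.normal_of_index_eq_minFac_card ?_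
        have hn0 : n ≠ 0 := by
          rintro rfl
          have h2 := Subgroup.index_dvd_card ((Q.subgroupOf H).subgroupOf (R : Subgroup H))
          rw [h, hn, pow_zero, Nat.dvd_one] at h2
          exact hp.ne_one h2
        rw [h, hn, Nat.pow_minFac hn0, hp.minFac_eq]
    -- the abelian subgroup `Z(Q)`
    set Z := Q ⊓ centralizer (Q : Set G) with hZ
    have hZc : IsMulCommutative Z := ⟨⟨fun a b => Subtype.ext
      (Subgroup.mem_centralizer_iff.1 b.2.2 a a.2.1)⟩⟩
    have hzQ : z ∈ Q := ⟨hzP.1, hAH hzA⟩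
    have hzZ : z ∈ Z := ⟨hzQ, Subgroup.centralizer_le
      (SetLike.coe_subset_coe.2 (inf_le_left : Q ≤ P)) hzP.2⟩
    haveI := hH
    have hzL : (⟨z, hAH hzA⟩ : H) ∈ Cfsg.pPrimePCore p H := by
      have hZc' : IsMulCommutative (Z.subgroupOf H) := isMulComm_subgroupOf hZc H
      refine S1457.result (odd_sub hX H) p R (Z.subgroupOf H) (fun x hx => hR hx.1) hZc' ?_ hzZ
      intro r hr
      have hrQ : (r : G) ∈ normalizer (Q : Set G) := by
        have h := (Subgroup.normal_subgroupOf_iff_le_normalizer hR).1 hQRn hr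
        rw [← Subgroup.subgroupOf_normalizer_eq (inf_le_right : Q ≤ H)] at h
        exact h
      rw [← Subgroup.subgroupOf_normalizer_eq ((inf_le_left : Z ≤ Q).trans inf_le_right)]
      exact inf_normalizer_le_normalizer_inf ⟨hrQ, normalizer_le_normalizer_centralizer _ hrQ⟩
    -- `W = [W, z] C_W(z)`
    have hzW : zpowers z ≤ normalizer (W : Set G) := (Subgroup.zpowers_le.2 hzA).trans hWA
    have hWd : ¬ p ∣ Nat.card W := hp.coprime_iff_not_dvd.1 hW.symm
    rw [Signalizer.eq_inf_centralizer_sup_commutator (hAp.to_le (Subgroup.zpowers_le.2 hzA)) hzW hWd]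
    refine sup_le ?_ ?_
    · -- `C_W(z)`
      set V := W ⊓ centralizer (zpowers z : Set G) with hV
      have hVz : V ≤ centralizer ({z} : Set G) := inf_le_right.trans (Subgroup.centralizer_le
        (Set.singleton_subset_iff.2 (Subgroup.mem_zpowers z)))
      have hVA : A ≤ normalizer (V : Set G) := by
        refine Signalizer.le_normalizer_inf hWA ?_
        refine le_trans (fun a ha => ?_ : A ≤ normalizer (zpowers z : Set G))
          (normalizer_le_normalizer_centralizer _)
        rw [← conjBy_eq_iff_mem_normalizer, conjBy, MonoidHom.map_zpowers]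
        congr 1
        show a * z * a⁻¹ = z
        rw [hcz a (hAP ha), mul_inv_cancel_right]
      have hVco : (Nat.card V).Coprime p := hW.coprime_dvd_left (Subgroup.card_dvd_of_le inf_le_left)
      set D := Cfsg.piCoreOf {q : ℕ | q.Prime ∧ q ≠ p} (centralizer ({z} : Set G)) ⊓ H
      have hVD : V ≤ D := le_inf (hzcase V hVz hVA hVco) (inf_le_left.trans hWe)
      refine hVD.trans (le_piCoreOf_of_normalized_by_centralizer hH
        (b := z) (hAH hzA) (isPGroup_zpowers_of_mem hAp hzA) inf_le_right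
        (inf_le_left.trans (piCoreOf_le _ _)) ?_ ?_)
      · exact Signalizer.le_normalizer_inf (inf_le_right.trans (le_normalizer_piCoreOf _ _))
          (inf_le_left.trans Subgroup.le_normalizer)
      · exact coprime_iff_isPi.2 ((isPi_piCoreOf _ _).of_le inf_le_left)
    · -- `[W, z]`
      rw [Subgroup.commutator_le]
      intro w hw y hy
      have hyH : y ∈ H := Subgroup.zpowers_le.2 (hAH hzA) hy
      have hyL : (⟨y, hyH⟩ : H) ∈ Cfsg.pPrimePCore p H := by
        obtain ⟨k, rfl⟩ := Subgroup.mem_zpowers_iff.1 hy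
        exact Subgroup.zpow_mem _ hzL k
      have h := commutator_mem_pPrimeCore (G := H) hyL (Y := W.subgroupOf H) ?_
        (by rw [Nat.card_congr (Subgroup.subgroupOfEquivOfLe hWe).toEquiv]; exact hW)
        (y := ⟨w, hWe hw⟩) hw
      · rw [piCoreOf_prime_eq]
        exact ⟨_, h, rfl⟩
      · rw [← Subgroup.subgroupOf_normalizer_eq hWe]
        exact hzW hy
  let E2 : Subgroup G := zpowers z ⊔ zpowers b
  have hE2Ω : E2 ≤ Ω := sup_le (Subgroup.zpowers_le.2 ⟨hzA, hzp⟩) (Subgroup.zpowers_le.2 hbΩ)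
  have hE2e : Cfsg.IsElementaryAbelian p E2 :=
    ⟨isMulComm_of_le hAc (hE2Ω.trans fun x hx => hx.1), fun a ha => (hE2Ω ha).2⟩
  have hE2card : p ^ 2 ≤ Nat.card E2 := by
    have hlt : zpowers z < E2 := lt_of_le_not_ge le_sup_left fun h =>
      hbZ (h (Subgroup.mem_sup_right (Subgroup.mem_zpowers b)))
    have := Signalizer.mul_prime_le_card_of_lt (isPGroup_of_elemAb hE2e) hlt
    rwa [Nat.card_zpowers, hzord, ← sq] at this
  refine Signalizer.le_of_forall_centralizer hE2e hE2card ((hE2Ω.trans fun x hx => hx.1).trans hUA)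
    (hp.coprime_iff_not_dvd.1 hU.symm) fun e he he1 => ?_
  have heΩ := hE2Ω he
  have hec : ∀ y ∈ (P : Subgroup G), ⁅y, e⁆ ∈ zpowers z := by
    intro y hy
    let S : Subgroup G :=
      { carrier := {e : G | e ∈ A ∧ ⁅y, e⁆ ∈ zpowers z}
        one_mem' := ⟨A.one_mem, by simp⟩
        mul_mem' := fun {a c} ha hc => ⟨A.mul_mem ha.1 hc.1, by
          have e1 : ⁅y, a * c⁆ = ⁅y, a⁆ * (a * ⁅y, c⁆ * a⁻¹) := by
            simp [commutatorElement_def, mul_assoc]
          rw [e1]
          refine Subgroup.mul_mem _ ha.2 ?_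
          obtain ⟨i, hi⟩ := Subgroup.mem_zpowers_iff.1 hc.2
          rw [← hi, ((show Commute a z from hcz a (hAP ha.1)).zpow_right i).eq,
            mul_inv_cancel_right]
          exact ⟨i, rfl⟩⟩
        inv_mem' := fun {a} ha => ⟨A.inv_mem ha.1, by
          have e1 : ⁅y, a⁻¹⁆ = a⁻¹ * ⁅y, a⁆⁻¹ * a := by
            simp [commutatorElement_def, mul_assoc]
          rw [e1]
          obtain ⟨i, hi⟩ := Subgroup.mem_zpowers_iff.1 ((zpowers z).inv_mem ha.2)
          rw [← hi, mul_assoc, ← ((show Commute a z from hcz a (hAP ha.1)).zpow_right i).eq,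
            inv_mul_cancel_left]
          exact ⟨i, rfl⟩⟩ }
    have hS : E2 ≤ S := sup_le
      (Subgroup.zpowers_le.2 ⟨hzA, by
        rw [show ⁅y, z⁆ = 1 from commutatorElement_eq_one_iff_mul_comm.2 (hcz y hy)]
        exact Subgroup.one_mem _⟩)
      (Subgroup.zpowers_le.2 ⟨hbA, hbc y hy⟩)
    exact (hS he).2
  have hWA : A ≤ normalizer (U ⊓ centralizer ({e} : Set G) : Subgroup G) := by
    refine Signalizer.le_normalizer_inf hUA (fun x hx => Subgroup.le_normalizer ?_)
    exact Subgroup.mem_centralizer_singleton_iff.2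
      (congrArg Subtype.val (hAc.is_comm.comm ⟨e, heΩ.1⟩ ⟨x, hx⟩)).symm
  have hco : (Nat.card ↥(U ⊓ centralizer ({e} : Set G))).Coprime p :=
    hU.coprime_dvd_left (Subgroup.card_dvd_of_le inf_le_left)
  set D := Cfsg.piCoreOf {q : ℕ | q.Prime ∧ q ≠ p} (centralizer ({e} : Set G)) ⊓
    centralizer ({a} : Set G)
  refine (le_inf (hgood e heΩ he1 hec _ inf_le_right hWA hco) (inf_le_left.trans hUa) :
    _ ≤ D).trans ?_
  refine le_piCoreOf_of_normalized_by_centralizer (hsolv a ha1 (isPGroup_zpowers_of_mem hAp haA))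
    (b := e) (Subgroup.mem_centralizer_singleton_iff.2
      (congrArg Subtype.val (hAc.is_comm.comm ⟨e, heΩ.1⟩ ⟨a, haA⟩)))
    (isPGroup_zpowers_of_mem hAp heΩ.1) inf_le_right (inf_le_left.trans (piCoreOf_le _ _)) ?_ ?_
  · exact Signalizer.le_normalizer_inf (inf_le_right.trans (le_normalizer_piCoreOf _ _))
      (inf_le_left.trans Subgroup.le_normalizer)
  · exact coprime_iff_isPi.2 ((isPi_piCoreOf _ _).of_le inf_le_left)

end Cfsg.Agent.Classif.OddSCN
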